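import Cfsg.Agent.Lib.SecondMain.Principal
import Cfsg.Agent.Lib.SecondMain.Sections
import Cfsg.Agent.Lib.Transfer.Focal
import Cfsg.Agent.Lib.Transfer.Tate
import Cfsg.Agent.Lib.Char.Monomial
import Cfsg.Agent.Lib.Coherence.Virtual

/-!
# The sections of an abelian Sylow subgroup with fixed-point-free normalizer

`pp` (the `p`-part), `tau` (a function on `P` read off the `p`-part), `tau_isGC`,
`avg` (the mean over a section), `classInner_tau`, and for the principal block
`apply_eq_avg`, `avg_eq_zero_of_notMem`.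
-/

set_option autoImplicit false

open scoped ComplexConjugate

namespace Cfsg.Agent.FrobSection

open Cfsg Cfsg.Agent

universe u

variable {G : Type u} [Group G] [Finite G] {p : ℕ} [Fact p.Prime]

theorem exists_isPPart (p : ℕ) [Fact p.Prime] (g : G) : ∃ x, IsPPart p g x := by
  obtain ⟨x, y, he, hx, hy, hk, hc⟩ := Transfer.exists_pPart_mul (p := p) g
  refine ⟨x, y, he.symm, ?_, hk, (Fact.out : p.Prime).coprime_iff_not_dvd.mp hc.symm⟩
  obtain ⟨i, rfl⟩ := hx
  obtain ⟨j, rfl⟩ := hy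
  exact ((Commute.refl g).zpow_zpow i j)

/-- The `p`-part. -/
noncomputable def pp (p : ℕ) [Fact p.Prime] (g : G) : G := (exists_isPPart p g).choose

theorem isPPart_pp (g : G) : IsPPart p g (pp p g) := (exists_isPPart p g).choose_spec

theorem pp_eq {g x : G} (h : IsPPart p g x) : pp p g = x := by
  obtain ⟨y, he, hc, hx, hy⟩ := h
  obtain ⟨y', he', hc', hx', hy'⟩ := isPPart_pp (p := p) g
  exact (SecondMain.pPart_unique hx' hx hy' hy hc' hc (he'.trans he.symm)).1

theorem exists_orderOf_pp (g : G) : ∃ k, orderOf (pp p g) = p ^ k := by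
  obtain ⟨-, -, -, hx, -⟩ := isPPart_pp (p := p) g
  exact hx

theorem pp_conj (c g : G) : pp p (c * g * c⁻¹) = c * pp p g * c⁻¹ := by
  obtain ⟨y, he, hc, hx, hy⟩ := isPPart_pp (p := p) g
  refine pp_eq ⟨c * y * c⁻¹, ?_, hc.map (MulAut.conj c).toMonoidHom,
    by rwa [SecondMain.orderOf_conj], by rwa [SecondMain.orderOf_conj]⟩
  conv_rhs => rw [← he]
  group

theorem pp_one : pp p (1 : G) = 1 :=
  pp_eq ⟨1, one_mul 1, Commute.refl _, ⟨0, by simp⟩,
    by simp only [orderOf_one, Nat.dvd_one]; exact (Fact.out : p.Prime).ne_one⟩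

theorem pp_eq_self {g : G} (h : ∃ k, orderOf g = p ^ k) : pp p g = g :=
  pp_eq ⟨1, mul_one g, Commute.one_right _, h,
    by simp only [orderOf_one, Nat.dvd_one]; exact (Fact.out : p.Prime).ne_one⟩

theorem pp_eq_one_iff {g : G} : pp p g = 1 ↔ ¬ p ∣ orderOf g := by
  constructor
  · intro h
    obtain ⟨y, he, -, -, hy⟩ := isPPart_pp (p := p) g
    rw [h, one_mul] at he
    exact he ▸ hy
  · exact fun h => pp_eq ⟨g, one_mul g, Commute.one_left _, ⟨0, by simp⟩, h⟩

theorem pp_mem_zpowers (g : G) : pp p g ∈ Subgroup.zpowers g ∧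
    ∀ y, pp p g * y = g → y ∈ Subgroup.zpowers g := by
  obtain ⟨x, y, he, hx, hy, hk, hc⟩ := Transfer.exists_pPart_mul (p := p) g
  have hxy : Commute x y := by
    obtain ⟨i, rfl⟩ := hx
    obtain ⟨j, rfl⟩ := hy
    exact (Commute.refl g).zpow_zpow i j
  have h := pp_eq (g := g) (x := x)
    ⟨y, he.symm, hxy, hk, (Fact.out : p.Prime).coprime_iff_not_dvd.mp hc.symm⟩
  refine ⟨h ▸ hx, fun z hz => ?_⟩
  rw [h] at hz
  exact (mul_left_cancel (hz.trans he) : z = y) ▸ hy

theorem commute_pp {a b : G} (h : Commute a b) : Commute (pp p a) b := by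
  obtain ⟨i, hi⟩ := (pp_mem_zpowers (p := p) a).1
  simp only at hi
  exact hi ▸ h.zpow_left i

/-- The `p`-part of a product of commuting elements. -/
theorem pp_mul_of_commute {a b : G} (h : Commute a b) : pp p (a * b) = pp p a * pp p b := by
  obtain ⟨y₁, he₁, hc₁, hx₁, hy₁⟩ := isPPart_pp (p := p) a
  obtain ⟨y₂, he₂, hc₂, hx₂, hy₂⟩ := isPPart_pp (p := p) b
  have hcomm : ∀ s t : G, s ∈ Subgroup.zpowers a → t ∈ Subgroup.zpowers b → Commute s t := by
    rintro _ _ ⟨i, rfl⟩ ⟨j, rfl⟩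
    exact h.zpow_zpow i j
  have c11 := hcomm _ _ (pp_mem_zpowers (p := p) a).1 (pp_mem_zpowers (p := p) b).1
  have c12 := hcomm _ _ (pp_mem_zpowers (p := p) a).1 ((pp_mem_zpowers (p := p) b).2 _ he₂)
  have c21 := hcomm _ _ ((pp_mem_zpowers (p := p) a).2 _ he₁) (pp_mem_zpowers (p := p) b).1
  have c22 := hcomm _ _ ((pp_mem_zpowers (p := p) a).2 _ he₁) ((pp_mem_zpowers (p := p) b).2 _ he₂)
  refine pp_eq ⟨y₁ * y₂, ?_, (hc₁.mul_right c12).mul_left (c21.symm.mul_right hc₂), ?_, ?_⟩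
  · rw [mul_assoc, ← mul_assoc (pp p b), ← c21.eq, mul_assoc y₁, he₂, ← mul_assoc, he₁]
  · obtain ⟨i, hi⟩ := hx₁
    obtain ⟨j, hj⟩ := hx₂
    have := c11.orderOf_mul_dvd_mul_orderOf
    rw [hi, hj, ← pow_add] at this
    obtain ⟨l, -, hl⟩ := (Nat.dvd_prime_pow Fact.out).mp this
    exact ⟨l, hl⟩
  · exact fun h' => (((Fact.out : p.Prime).dvd_mul).mp
      (h'.trans c22.orderOf_mul_dvd_mul_orderOf)).elim hy₁ hy₂

/-- The `p`-part is multiplicative on an elementary subgroup. -/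
theorem pp_mul_of_elementary {E : Subgroup G} {r : ℕ} (hr : r.Prime) (hE : IsElementary r E)
    {a b : G} (ha : a ∈ E) (hb : b ∈ E) : pp p (a * b) = pp p a * pp p b := by
  haveI := Fact.mk hr
  obtain ⟨x, hx, hco, k, hk⟩ := hE
  let Z : Subgroup E := Subgroup.zpowers x
  let Q : Sylow r E := default
  have hZc : ∀ z ∈ Z, ∀ e : E, Commute (z : G) (e : G) := by
    rintro _ ⟨i, rfl⟩ e
    exact congrArg Subtype.val (Commute.zpow_left (Subgroup.mem_center_iff.mp hx e).symm i)
  have hcard : Nat.card Z = orderOf x := Nat.card_zpowers x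
  have hQ : Nat.card (Q : Subgroup E) = r ^ k := by
    rw [Sylow.card_eq_multiplicity, ← Subgroup.card_mul_index Z, hk, hcard,
      Nat.factorization_mul (orderOf_pos x).ne' (pow_ne_zero _ hr.ne_zero), Finsupp.add_apply,
      Nat.factorization_eq_zero_of_not_dvd (fun h => hr.coprime_iff_not_dvd.mp hco.symm h),
      hr.factorization_pow, Finsupp.single_eq_same, zero_add]
  have hc : Subgroup.IsComplement' Z (Q : Subgroup E) := by
    apply Subgroup.isComplement'_of_coprime
    · rw [hQ, ← hk, Subgroup.card_mul_index]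
    · rw [hQ, hcard]; exact hco.pow_right k
  obtain ⟨⟨z, q⟩, hzq⟩ := hc.2 ⟨a, ha⟩
  obtain ⟨⟨z', q'⟩, hzq'⟩ := hc.2 ⟨b, hb⟩
  replace hzq : ((z : E) : G) * ((q : E) : G) = a := congrArg Subtype.val hzq
  replace hzq' : ((z' : E) : G) * ((q' : E) : G) = b := congrArg Subtype.val hzq'
  subst hzq hzq'
  have e := fun (w : Z) (v : E) => hZc w w.2 v
  have hQmul : pp p (((q : E) : G) * ((q' : E) : G)) = pp p ((q : E) : G) * pp p ((q' : E) : G) := by
    have hord : ∀ v : E, v ∈ (Q : Subgroup E) → ∃ l, orderOf (v : G) = r ^ l := fun v hv => by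
      obtain ⟨l, hl⟩ := IsPGroup.iff_orderOf.mp Q.2 ⟨v, hv⟩
      exact ⟨l, by rw [Subgroup.orderOf_coe, ← hl, ← Subgroup.orderOf_coe ⟨v, hv⟩]⟩
    rw [← Subgroup.coe_mul]
    by_cases hrp : r = p
    · subst hrp
      rw [pp_eq_self (hord _ (mul_mem q.2 q'.2)), pp_eq_self (hord _ q.2), pp_eq_self (hord _ q'.2),
        Subgroup.coe_mul]
    · have h1 : ∀ v : E, v ∈ (Q : Subgroup E) → pp p (v : G) = 1 := fun v hv => by
        obtain ⟨l, hl⟩ := hord v hv
        refine pp_eq_one_iff.mpr fun h => hrp ?_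
        exact ((Nat.prime_dvd_prime_iff_eq Fact.out hr).mp ((Fact.out : p.Prime).dvd_of_dvd_pow (hl ▸ h))).symm
      rw [h1 _ (mul_mem q.2 q'.2), h1 _ q.2, h1 _ q'.2, one_mul]
  have hzz : Commute ((z : E) : G) ((z' : E) : G) := e z _
  have hbig : Commute (((z : E) : G) * ((z' : E) : G)) (((q : E) : G) * ((q' : E) : G)) :=
    ((e z _).mul_right (e z _)).mul_left ((e z' _).mul_right (e z' _))
  rw [show ((z : E) : G) * ((q : E) : G) * (((z' : E) : G) * ((q' : E) : G)) =
      (((z : E) : G) * ((z' : E) : G)) * (((q : E) : G) * ((q' : E) : G)) from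
    (e z' (q : E)).symm.mul_mul_mul_comm _ _,
    pp_mul_of_commute hbig, pp_mul_of_commute hzz, hQmul,
    pp_mul_of_commute (e z (q : E)), pp_mul_of_commute (e z' (q' : E))]
  exact (commute_pp (p := p) (commute_pp (p := p) (e z' (q : E))).symm).symm.mul_mul_mul_comm _ _

/-! ### The action of the normalizer -/

variable (P : Sylow p G)

/-- The automorphisms of `P` induced by its normalizer. -/
def autP : Subgroup (MulAut (P : Subgroup G)) := (Subgroup.normalizerMonoidHom (P : Subgroup G)).range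

theorem mem_autP {a : MulAut (P : Subgroup G)} :
    a ∈ autP P ↔ ∃ n ∈ Subgroup.normalizer ((P : Subgroup G) : Set G),
      ∀ y : (P : Subgroup G), (a y : G) = n * y * n⁻¹ := by
  constructor
  · rintro ⟨n, rfl⟩
    exact ⟨n, n.2, fun y => rfl⟩
  · rintro ⟨n, hn, h⟩
    exact ⟨⟨n, hn⟩, MulEquiv.ext fun y => Subtype.ext (h y).symm⟩

theorem card_autP : Nat.card (autP P) =
    (Subgroup.centralizer ((P : Subgroup G) : Set G)).relIndex
      (Subgroup.normalizer ((P : Subgroup G) : Set G)) := by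
  rw [autP, ← Subgroup.index_ker, Subgroup.normalizerMonoidHom_ker]
  rfl

/-- The hypothesis of a fixed-point-free action of the normalizer on an abelian Sylow subgroup. -/
structure Setup (P : Sylow p G) : Prop where
  comm : IsMulCommutative (P : Subgroup G)
  frob : ∀ y : G, y ∈ (P : Subgroup G) → y ≠ 1 →
    Subgroup.centralizer ({y} : Set G) ⊓ Subgroup.normalizer ((P : Subgroup G) : Set G) =
      Subgroup.centralizer ((P : Subgroup G) : Set G)

variable {P}

theorem Setup.fpf (hS : Setup P) {a : MulAut (P : Subgroup G)} (ha : a ∈ autP P)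
    {y : (P : Subgroup G)} (hy : y ≠ 1) (h : a y = y) : a = 1 := by
  obtain ⟨n, hn, hna⟩ := (mem_autP P).mp ha
  have hc : n * (y : G) * n⁻¹ = y := by rw [← hna, h]
  have hn' : n ∈ Subgroup.centralizer ((P : Subgroup G) : Set G) := by
    rw [← hS.frob y y.2 (fun e => hy (Subtype.ext e))]
    exact ⟨Subgroup.mem_centralizer_singleton_iff.mpr (mul_inv_eq_iff_eq_mul.mp hc), hn⟩
  refine MulEquiv.ext fun z => Subtype.ext ?_
  rw [hna, MulAut.one_apply, ← Subgroup.mem_centralizer_iff.mp hn' z z.2, mul_inv_cancel_right]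

theorem Setup.exists_aut (hS : Setup P) {y y' : (P : Subgroup G)} (h : IsConj (y : G) (y' : G)) :
    ∃ a ∈ autP P, a y = y' := by
  obtain ⟨g, hg⟩ := isConj_iff.mp h
  haveI := hS.comm
  obtain ⟨n, hn, he⟩ := Transfer.normalizer_control_of_comm P y y.2 g (hg ▸ y'.2)
  exact ⟨_, ⟨⟨n, hn⟩, rfl⟩, Subtype.ext (he.trans hg)⟩

theorem isConj_aut {a : MulAut (P : Subgroup G)} (ha : a ∈ autP P) (y : (P : Subgroup G)) :
    IsConj (y : G) ((a y : (P : Subgroup G)) : G) := by
  obtain ⟨n, -, hna⟩ := (mem_autP P).mp ha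
  exact isConj_iff.mpr ⟨n, (hna y).symm⟩

variable (P) in
theorem exists_rep (g : G) : ∃ y : (P : Subgroup G), IsConj (pp p g) (y : G) := by
  obtain ⟨k, hk⟩ := exists_orderOf_pp (p := p) g
  have hz : IsPGroup p (Subgroup.zpowers (pp p g)) :=
    IsPGroup.of_card (n := k) (by rw [Nat.card_zpowers, hk])
  obtain ⟨R, hR⟩ := hz.exists_le_sylow
  obtain ⟨c, hc⟩ := MulAction.exists_smul_eq G R P
  refine ⟨⟨c * pp p g * c⁻¹, ?_⟩, isConj_iff.mpr ⟨c, rfl⟩⟩
  rw [← hc]
  exact Subgroup.mem_map_of_mem _ (hR (Subgroup.mem_zpowers _))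

variable (P) in
/-- A function on `P` read at the conjugates of the `p`-part. -/
noncomputable def tau (f : ↥(P : Subgroup G) → ℂ) (g : G) : ℂ := f (exists_rep P g).choose

theorem Setup.tau_apply (hS : Setup P) {f : ↥(P : Subgroup G) → ℂ}
    (hf : ∀ a ∈ autP P, ∀ y, f (a y) = f y) {g : G} {y : (P : Subgroup G)}
    (h : IsConj (pp p g) (y : G)) : tau P f g = f y := by
  obtain ⟨a, ha, hay⟩ := hS.exists_aut ((exists_rep P g).choose_spec.symm.trans h)
  rw [tau, ← hay, hf a ha]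

theorem Setup.tau_regular (hS : Setup P) {f : ↥(P : Subgroup G) → ℂ}
    (hf : ∀ a ∈ autP P, ∀ y, f (a y) = f y) {g : G} (hg : ¬ p ∣ orderOf g) : tau P f g = f 1 :=
  hS.tau_apply hf (by rw [pp_eq_one_iff.mpr hg]; exact IsConj.refl _)

theorem Setup.tau_isClassFunction (hS : Setup P) {f : ↥(P : Subgroup G) → ℂ}
    (hf : ∀ a ∈ autP P, ∀ y, f (a y) = f y) : IsClassFunction G (tau P f) := fun g c => by
  refine hS.tau_apply hf ?_
  rw [pp_conj]
  exact (isConj_iff.mpr ⟨c, rfl⟩ : IsConj (pp p g) _).symm.trans (exists_rep P g).choose_spec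

theorem Setup.tau_isGC (hS : Setup P) {f : ↥(P : Subgroup G) → ℂ}
    (hf : ∀ a ∈ autP P, ∀ y, f (a y) = f y) (hgc : IsGeneralizedCharacter (P : Subgroup G) f) :
    IsGeneralizedCharacter G (tau P f) := by
  refine Char.brauer_characterization (hS.tau_isClassFunction hf) fun E r hr hE => ?_
  let φ : E →* G := MonoidHom.mk' (fun e => pp p (e : G)) fun a b =>
    pp_mul_of_elementary hr hE a.2 b.2
  have hφ : IsPGroup p φ.range := IsPGroup.iff_orderOf.mpr fun v => by
    obtain ⟨e, he⟩ := v.2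
    obtain ⟨k, hk⟩ := exists_orderOf_pp (p := p) (e : G)
    exact ⟨k, by rw [← Subgroup.orderOf_coe, ← he, ← hk]; rfl⟩
  obtain ⟨R, hR⟩ := hφ.exists_le_sylow
  obtain ⟨c, hc⟩ := MulAction.exists_smul_eq G R P
  have hmem : ∀ e : E, c * pp p (e : G) * c⁻¹ ∈ (P : Subgroup G) := fun e => by
    rw [← hc]
    exact Subgroup.mem_map_of_mem _ (hR ⟨e, rfl⟩)
  let ψ : E →* (P : Subgroup G) :=
    ((MulAut.conj c).toMonoidHom.comp φ).codRestrict (P : Subgroup G) hmem
  have he : (fun e : E => tau P f (e : G)) = fun e => f (ψ e) :=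
    funext fun e => hS.tau_apply hf (isConj_iff.mpr ⟨c, rfl⟩)
  rw [he]
  exact Char.IsGeneralizedCharacter.comp_hom hgc ψ

/-! ### Centralisers -/

theorem Setup.hasNormalPComplement (hS : Setup P) {y : (P : Subgroup G)} (hy : y ≠ 1) :
    HasNormalPComplement p (Subgroup.centralizer ({(y : G)} : Set G)) := by
  haveI := hS.comm
  have hle : (P : Subgroup G) ≤ Subgroup.centralizer ({(y : G)} : Set G) := fun z hz =>
    Subgroup.mem_centralizer_singleton_iff.mpr
      (congrArg Subtype.val (mul_comm' (⟨z, hz⟩ : (P : Subgroup G)) y))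
  refine Transfer.hasNormalPComplement_of_normalizer_le_centralizer (P.subtype hle) fun n hn => ?_
  have hnP : (n : G) ∈ Subgroup.normalizer ((P : Subgroup G) : Set G) := by
    rw [Subgroup.mem_normalizer_iff] at hn ⊢
    intro z
    by_cases hz : z ∈ Subgroup.centralizer ({(y : G)} : Set G)
    · exact hn ⟨z, hz⟩
    · refine ⟨fun h => (hz (hle h)).elim, fun h => ?_⟩
      have := mul_mem (mul_mem (inv_mem n.2) (hle h)) n.2
      rw [show (n : G)⁻¹ * ((n : G) * z * (n : G)⁻¹) * n = z by group] at this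
      exact (hz this).elim
  have hC : (n : G) ∈ Subgroup.centralizer ((P : Subgroup G) : Set G) := by
    rw [← hS.frob y y.2 (fun e => hy (Subtype.ext e))]
    exact ⟨n.2, hnP⟩
  exact Subgroup.mem_centralizer_iff.mpr fun z hz =>
    Subtype.ext (Subgroup.mem_centralizer_iff.mp hC z hz)

end Cfsg.Agent.FrobSection
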