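import Cfsg.Agent.Lib.FrobSection.Inner
import Cfsg.Agent.Lib.Char.Linear

/-!
# The orbit sums of the characters of `P`

`orb ψ` (the sum over the orbit), its orthogonality, the count of the orbits, and `eq_zero_of_orth`.
-/

set_option autoImplicit false

open scoped ComplexConjugate
open scoped Classical

namespace Cfsg.Agent.FrobSection

open Cfsg Cfsg.Agent

universe u

variable {G : Type u} [Group G] [Finite G] {p : ℕ} [Fact p.Prime] {P : Sylow p G}

/-- The characters of degree one of `P`. -/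
abbrev Dual (P : Sylow p G) := ↥(P : Subgroup G) →* ℂˣ

/-- The value of a character of `P` as a function. -/
def lin (ψ : Dual P) : ↥(P : Subgroup G) → ℂ := fun y => ((ψ y : ℂˣ) : ℂ)

/-- The sum over the orbit of `ψ`. -/
noncomputable def orb (ψ : Dual P) (y : ↥(P : Subgroup G)) : ℂ :=
  ∑ᶠ a : autP P, lin ψ (a.1 y)

/-- The function vanishing at `1` attached to the orbit of `ψ`. -/
noncomputable def orb₀ (ψ : Dual P) (y : ↥(P : Subgroup G)) : ℂ :=
  orb ψ y - (Nat.card (autP P) : ℂ)

theorem isIrr_lin (ψ : Dual P) : IsIrrCharacter ↥(P : Subgroup G) (lin ψ) :=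
  Char.isIrrCharacter_of_hom ((Units.coeHom ℂ).comp ψ)

theorem lin_injective : Function.Injective (lin : Dual P → _) := fun ψ φ h =>
  MonoidHom.ext fun y => Units.ext (congrFun h y)

theorem orb_inv (ψ : Dual P) {b : MulAut ↥(P : Subgroup G)} (hb : b ∈ autP P) (y : ↥(P : Subgroup G)) :
    orb ψ (b y) = orb ψ y :=
  finsum_eq_of_bijective (fun a : autP P => a * ⟨b, hb⟩) (Equiv.mulRight (⟨b, hb⟩ : autP P)).bijective
    fun a => by simp [MulAut.mul_apply]

theorem orb₀_inv (ψ : Dual P) {b : MulAut ↥(P : Subgroup G)} (hb : b ∈ autP P) (y : ↥(P : Subgroup G)) :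
    orb₀ ψ (b y) = orb₀ ψ y := by rw [orb₀, orb₀, orb_inv ψ hb]

theorem orb_apply_one (ψ : Dual P) : orb ψ 1 = (Nat.card (autP P) : ℂ) := by
  have := Fintype.ofFinite (autP P)
  simp [orb, lin, finsum_eq_sum_of_fintype, Nat.card_eq_fintype_card]

theorem orb₀_apply_one (ψ : Dual P) : orb₀ ψ 1 = 0 := by rw [orb₀, orb_apply_one, sub_self]

theorem isGC_orb₀ (ψ : Dual P) : IsGeneralizedCharacter ↥(P : Subgroup G) (orb₀ ψ) := by
  have := Fintype.ofFinite (autP P)
  have h : orb₀ ψ = (∑ a : autP P, lin (ψ.comp a.1.toMonoidHom)) -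
      ((Nat.card (autP P) : ℤ) : ℂ) • lin (1 : Dual P) := by
    funext y
    simp [orb₀, orb, lin, finsum_eq_sum_of_fintype, Finset.sum_apply]
  rw [h]
  exact Char.IsGeneralizedCharacter.sub (Char.IsGeneralizedCharacter.sum _ fun a _ =>
    Coherence.isGC_of_irr (isIrr_lin _)) (Char.IsGeneralizedCharacter.intCast_smul
      (Coherence.isGC_of_irr (isIrr_lin _)) _)

/-- The nontrivial characters of the orbit are distinct. -/
theorem Setup.comp_aut_injective (hS : Setup P) {ψ : Dual P} (hψ : ψ ≠ 1) {a b : autP P}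
    (h : ψ.comp a.1.toMonoidHom = ψ.comp b.1.toMonoidHom) : a = b := by
  haveI := hS.comm
  by_contra hne
  set c : MulAut ↥(P : Subgroup G) := a.1 * b.1⁻¹ with hc
  have hc1 : c ≠ 1 := fun e => hne (Subtype.ext (mul_inv_eq_one.mp e))
  have hψc : ∀ y, ψ (c y) = ψ y := fun y => by
    have := DFunLike.congr_fun h (b.1⁻¹ y)
    simpa [c, MulAut.mul_apply, MulAut.inv_apply] using this
  let d : ↥(P : Subgroup G) → ↥(P : Subgroup G) := fun y => c y * y⁻¹
  have hd : Function.Injective d := by
    intro y z hyz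
    refine (inv_mul_eq_one.mp ?_).symm
    by_contra hne'
    refine hc1 (hS.fpf (mul_mem a.2 (inv_mem b.2)) hne' ?_)
    have h1 : c y * y⁻¹ = c z * z⁻¹ := hyz
    have h2 : c z = c y * y⁻¹ * z := by rw [h1, inv_mul_cancel_right]
    rw [map_mul, map_inv, h2]
    group
  refine hψ (MonoidHom.ext fun x => ?_)
  obtain ⟨y, rfl⟩ := (Finite.injective_iff_surjective.mp hd) x
  rw [MonoidHom.map_mul, hψc, map_inv, mul_inv_cancel, MonoidHom.one_apply]

theorem Setup.orb_eq_finsum (hS : Setup P) {ψ : Dual P} (hψ : ψ ≠ 1) (y : ↥(P : Subgroup G)) :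
    ∑ᶠ ψ' ∈ {ψ' : Dual P | ∃ n : G, n ∈ Subgroup.normalizer ((P : Subgroup G) : Set G) ∧
        ∀ w w' : ↥(P : Subgroup G), (w' : G) = n * w * n⁻¹ → ψ' w' = ψ w}, ((ψ' y : ℂˣ) : ℂ) =
      orb ψ y := by
  have hset : {ψ' : Dual P | ∃ n : G, n ∈ Subgroup.normalizer ((P : Subgroup G) : Set G) ∧
        ∀ w w' : ↥(P : Subgroup G), (w' : G) = n * w * n⁻¹ → ψ' w' = ψ w} =
      Set.range fun a : autP P => ψ.comp a.1.toMonoidHom := by
    ext ψ'
    constructor
    · rintro ⟨n, hn, h⟩
      refine ⟨⟨_, ⟨⟨n⁻¹, inv_mem hn⟩, rfl⟩⟩, MonoidHom.ext fun z => ?_⟩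
      refine (h ((Subgroup.normalizerMonoidHom (P : Subgroup G) ⟨n⁻¹, inv_mem hn⟩) z) z ?_).symm
      show (z : G) = n * (n⁻¹ * z * n⁻¹⁻¹) * n⁻¹
      group
    · rintro ⟨a, rfl⟩
      obtain ⟨n, hn, hna⟩ := (mem_autP P).mp a.2
      refine ⟨n⁻¹, inv_mem hn, fun w w' h => congrArg ψ (Subtype.ext ?_)⟩
      show ((a.1 w' : ↥(P : Subgroup G)) : G) = w
      rw [hna, h]
      group
  rw [hset, finsum_mem_range (fun a b h => hS.comp_aut_injective hψ h)]
  rfl

variable [Fintype G]

open Classical in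
theorem sum_lin_mul_conj (ψ φ : Dual P) :
    ∑ y : ↥(P : Subgroup G), lin ψ y * conj (lin φ y) =
      if ψ = φ then (Nat.card ↥(P : Subgroup G) : ℂ) else 0 := by
  have h := Char.card_mul_classInner (lin ψ) (lin φ)
  rw [← h]
  split_ifs with e
  · rw [e, Char.classInner_irr_self (isIrr_lin φ), mul_one]
  · rw [Char.classInner_irr_of_ne (isIrr_lin ψ) (isIrr_lin φ) (fun h => e (lin_injective h)), mul_zero]

open Classical in
theorem Setup.sum_orb_mul_conj (hS : Setup P) {ψ φ : Dual P} (hψ : ψ ≠ 1) :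
    ∑ y : ↥(P : Subgroup G), orb ψ y * conj (orb φ y) =
      if orb ψ = orb φ then (Nat.card ↥(P : Subgroup G) : ℂ) * (Nat.card (autP P) : ℂ) else 0 := by
  have hexp : ∑ y : ↥(P : Subgroup G), orb ψ y * conj (orb φ y) =
      ∑ a : autP P, ∑ b : autP P,
        if ψ.comp a.1.toMonoidHom = φ.comp b.1.toMonoidHom then (Nat.card ↥(P : Subgroup G) : ℂ) else 0 := by
    simp only [orb, finsum_eq_sum_of_fintype, map_sum, Finset.sum_mul_sum]
    rw [Finset.sum_comm]
    refine Finset.sum_congr rfl fun a _ => ?_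
    rw [Finset.sum_comm]
    refine Finset.sum_congr rfl fun b _ => ?_
    exact sum_lin_mul_conj (G := G) (ψ.comp a.1.toMonoidHom) (φ.comp b.1.toMonoidHom)
  rw [hexp]
  by_cases h : ∃ c : autP P, φ = ψ.comp c.1.toMonoidHom
  · obtain ⟨c, rfl⟩ := h
    have heq : orb ψ = orb (ψ.comp c.1.toMonoidHom) := funext fun y => (orb_inv ψ c.2 y).symm.trans
      (finsum_eq_of_bijective (fun a : autP P => (c⁻¹ * a) * c)
        ((Equiv.mulLeft c⁻¹).trans (Equiv.mulRight c)).bijective fun a => by
          simp [lin, MulAut.mul_apply, MulAut.inv_apply])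
    rw [if_pos heq, Finset.sum_congr rfl fun a _ => Finset.sum_eq_single (c⁻¹ * a) ?_ (by simp),
      Finset.sum_congr rfl fun a _ => if_pos ?_, Finset.sum_const, Finset.card_univ, nsmul_eq_mul,
      Nat.card_eq_fintype_card (α := autP P), mul_comm]
    · refine MonoidHom.ext fun y => congrArg ψ ?_
      simp [MulAut.mul_apply, MulAut.inv_apply]
    · intro b _ hb
      refine if_neg fun e => hb ?_
      have : ψ.comp (a : autP P).1.toMonoidHom = ψ.comp ((c * b : autP P)).1.toMonoidHom := by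
        rw [e]; rfl
      rw [hS.comp_aut_injective hψ this]
      group
  · have hz : ∀ a b : autP P, ψ.comp a.1.toMonoidHom ≠ φ.comp b.1.toMonoidHom := by
      intro a b e
      refine h ⟨a * b⁻¹, MonoidHom.ext fun y => ?_⟩
      have := DFunLike.congr_fun e (b.1⁻¹ y)
      simpa [MulAut.mul_apply, MulAut.inv_apply] using this.symm
    simp only [hz, if_false, Finset.sum_const_zero]
    rw [if_neg]
    intro heq
    have h1 : ∀ a b : autP P, ψ.comp a.1.toMonoidHom ≠ φ.comp b.1.toMonoidHom := hz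
    have hzero : ∑ y : ↥(P : Subgroup G), orb ψ y * conj (lin ψ y) = 0 := by
      rw [heq]
      simp only [orb, finsum_eq_sum_of_fintype, Finset.sum_mul]
      rw [Finset.sum_comm]
      refine Finset.sum_eq_zero fun b _ => (sum_lin_mul_conj (φ.comp b.1.toMonoidHom) ψ).trans (if_neg ?_)
      intro e
      exact hz 1 b (by rw [e]; rfl)
    simp only [orb, finsum_eq_sum_of_fintype, Finset.sum_mul] at hzero
    rw [Finset.sum_comm, Finset.sum_congr rfl fun a _ => sum_lin_mul_conj (ψ.comp a.1.toMonoidHom) ψ,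
      Finset.sum_eq_single 1] at hzero
    · rw [if_pos (show ψ.comp ((1 : autP P).1.toMonoidHom) = ψ from MonoidHom.ext fun _ => rfl)] at hzero
      exact Nat.card_pos.ne' (Nat.cast_eq_zero.mp hzero)
    · intro a _ ha
      refine if_neg fun e => ha (hS.comp_aut_injective hψ ?_)
      rw [e]; rfl
    · simp

theorem Setup.sum_orb (hS : Setup P) {ψ : Dual P} (hψ : ψ ≠ 1) :
    ∑ y : ↥(P : Subgroup G), orb ψ y = 0 := by
  simp only [orb, finsum_eq_sum_of_fintype]
  rw [Finset.sum_comm]
  refine Finset.sum_eq_zero fun a _ => ?_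
  classical
  have := sum_lin_mul_conj (ψ.comp a.1.toMonoidHom) (1 : Dual P)
  simp only [lin, MonoidHom.one_apply, Units.val_one, map_one, mul_one] at this
  rw [if_neg] at this
  · exact this
  · intro e
    refine hψ (MonoidHom.ext fun y => ?_)
    obtain ⟨x, rfl⟩ := a.1.surjective y
    exact DFunLike.congr_fun e x

omit [Fintype G] in
theorem Setup.card_dual (hS : Setup P) : Nat.card (Dual P) = Nat.card ↥(P : Subgroup G) := by
  have := Fintype.ofFinite ↥(P : Subgroup G)
  haveI := hS.comm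
  rw [Nat.card_congr (Char.linearCharEquiv _), Char.card_linear_irr,
    (commutator_eq_bot_iff ↥(P : Subgroup G)).mpr inferInstance, Subgroup.index_bot]

open Classical in
/-- The orbits: their number. -/
theorem Setup.card_orbits (hS : Setup P) [Fintype (Dual P)] :
    Nat.card (autP P) * ((Finset.univ.filter fun ψ : Dual P => ψ ≠ 1).image orb).card + 1 =
      Nat.card ↥(P : Subgroup G) := by
  have hfib : ∀ f ∈ (Finset.univ.filter fun ψ : Dual P => ψ ≠ 1).image orb,
      ((Finset.univ.filter fun ψ : Dual P => ψ ≠ 1).filter (fun ψ => orb ψ = f)).card =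
        Nat.card (autP P) := by
    intro f hf
    obtain ⟨ψ, hψ, rfl⟩ := Finset.mem_image.mp hf
    replace hψ := (Finset.mem_filter.mp hψ).2
    rw [Nat.card_eq_fintype_card, ← Finset.card_univ]
    symm
    refine Finset.card_bij (fun a _ => ψ.comp a.1.toMonoidHom) ?_
      (fun a _ b _ h => hS.comp_aut_injective hψ h) ?_
    · intro a _
      refine Finset.mem_filter.mpr ⟨Finset.mem_filter.mpr ⟨Finset.mem_univ _, fun e => hψ ?_⟩, ?_⟩
      · refine MonoidHom.ext fun y => ?_
        obtain ⟨x, rfl⟩ := a.1.surjective y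
        exact DFunLike.congr_fun e x
      · by_contra hne
        have h1 := hS.sum_orb_mul_conj (φ := ψ) (ψ := ψ.comp a.1.toMonoidHom) (fun e => hψ (by
          refine MonoidHom.ext fun y => ?_
          obtain ⟨x, rfl⟩ := a.1.surjective y
          exact DFunLike.congr_fun e x))
        rw [if_neg hne] at h1
        have h2 := hS.sum_orb_mul_conj (ψ := ψ) (φ := ψ) hψ
        rw [if_pos rfl] at h2
        have heq : orb (ψ.comp a.1.toMonoidHom) = orb ψ := funext fun y =>
          (finsum_eq_of_bijective (fun b : autP P => a * b) (Equiv.mulLeft a).bijective fun b => by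
            simp [lin, MulAut.mul_apply])
        exact hne heq
    · intro φ hφ
      obtain ⟨-, hφ2⟩ := Finset.mem_filter.mp hφ
      by_contra hno
      push Not at hno
      have h1 := hS.sum_orb_mul_conj (ψ := ψ) (φ := φ) hψ
      rw [if_pos hφ2.symm] at h1
      simp only [orb, finsum_eq_sum_of_fintype, map_sum, Finset.sum_mul_sum] at h1
      rw [Finset.sum_comm, Finset.sum_eq_zero] at h1
      · exact mul_ne_zero (Nat.cast_ne_zero.mpr Nat.card_pos.ne') (Nat.cast_ne_zero.mpr Nat.card_pos.ne')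
          h1.symm
      · intro a _
        rw [Finset.sum_comm]
        refine Finset.sum_eq_zero fun b _ => ?_
        refine (sum_lin_mul_conj (ψ.comp a.1.toMonoidHom) (φ.comp b.1.toMonoidHom)).trans (if_neg ?_)
        intro e
        refine hno (a * b⁻¹) (Finset.mem_univ _) (MonoidHom.ext fun y => ?_)
        have := DFunLike.congr_fun e (b.1⁻¹ y)
        simpa [MulAut.mul_apply, MulAut.inv_apply] using this
  rw [← hS.card_dual, Nat.card_eq_fintype_card (α := Dual P),
    Finset.card_univ (α := Dual P) |>.symm,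
    ← Finset.card_erase_add_one (Finset.mem_univ (1 : Dual P))]
  congr 1
  rw [← Finset.filter_ne', Finset.card_eq_sum_card_fiberwise (f := orb)
    (s := Finset.univ.filter fun ψ : Dual P => ψ ≠ 1)
    (t := (Finset.univ.filter fun ψ : Dual P => ψ ≠ 1).image orb)
    (fun x hx => Finset.mem_image_of_mem orb hx), Finset.sum_congr rfl hfib, Finset.sum_const,
    smul_eq_mul, mul_comm]

/-- An invariant function orthogonal to all the orbit functions is zero off `1`. -/
theorem Setup.eq_zero_of_orth (hS : Setup P) {h : ↥(P : Subgroup G) → ℂ}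
    (hh : ∀ a ∈ autP P, ∀ y, h (a y) = h y)
    (horth : ∀ ψ : Dual P, ψ ≠ 1 → ∑ y, orb₀ ψ y * conj (h y) = 0)
    {y : ↥(P : Subgroup G)} (hy : y ≠ 1) : h y = 0 := by
  classical
  haveI := hS.comm
  have hcom : ∀ a b : ↥(P : Subgroup G), a * b = b * a := mul_comm'
  let k : ↥(P : Subgroup G) → ℂ := fun z =>
    if z = 1 then -∑ w ∈ Finset.univ.erase 1, h w else h z
  have hk0 : ∑ z, k z = 0 := by
    rw [← Finset.add_sum_erase _ _ (Finset.mem_univ (1 : ↥(P : Subgroup G))),
      Finset.sum_congr rfl fun w hw => if_neg (Finset.ne_of_mem_erase hw)]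
    simp [k]
  have hsame : ∀ ψ : Dual P, ∑ z, orb₀ ψ z * conj (k z) = ∑ z, orb₀ ψ z * conj (h z) := fun ψ =>
    Finset.sum_congr rfl fun z _ => by
      by_cases hz : z = 1
      · rw [hz, orb₀_apply_one, zero_mul, zero_mul]
      · simp [k, hz]
  have hkinv : ∀ a ∈ autP P, ∀ z, k (a z) = k z := by
    intro a ha z
    by_cases hz : z = 1
    · rw [hz, map_one]
    · simp [k, hz, hh a ha]
  have hcl : IsClassFunction ↥(P : Subgroup G) k := fun g c => by
    rw [hcom c g, mul_inv_cancel_right]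
  have hzero : k = 0 := by
    refine Char.eq_zero_of_forall_classInner_irr hcl fun χ => ?_
    obtain ⟨l, hl⟩ := Char.exists_hom_of_degree_one (Char.IsIrrCharacter.isCharacter χ.2)
      (Char.apply_one_eq_one_of_comm hcom χ)
    rw [← Char.classInner_conj_symm, map_eq_zero, classInner, mul_eq_zero]
    right
    by_cases h1 : l.toHomUnits = 1
    · have : ∀ z, (χ : ↥(P : Subgroup G) → ℂ) z = 1 := fun z => by
        rw [← hl]; exact congrArg Units.val (DFunLike.congr_fun h1 z)
      simp only [this, one_mul, ← map_sum, hk0, map_zero]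
    · have hψ : ∀ z, (χ : ↥(P : Subgroup G) → ℂ) z = lin (l.toHomUnits) z := fun z => by rw [← hl]; rfl
      simp only [hψ]
      have h2 := (hsame l.toHomUnits).trans (horth _ h1)
      simp only [orb₀, orb, finsum_eq_sum_of_fintype, sub_mul, Finset.sum_sub_distrib,
        ← Finset.mul_sum, ← map_sum, hk0, map_zero, mul_zero, sub_zero, Finset.sum_mul] at h2
      rw [Finset.sum_comm] at h2
      have h3 : ∀ a : autP P, ∑ z, lin l.toHomUnits (a.1 z) * conj (k z) =
          ∑ z, lin l.toHomUnits z * conj (k z) := fun a =>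
        Fintype.sum_equiv a.1.toEquiv _ _ fun z => by simp [hkinv a.1 a.2]
      rw [Finset.sum_congr rfl fun a _ => h3 a, Finset.sum_const, nsmul_eq_mul, mul_eq_zero] at h2
      exact h2.resolve_left (Nat.cast_ne_zero.mpr (Finset.card_ne_zero.mpr ⟨1, Finset.mem_univ _⟩))
  have := congrFun hzero y
  simpa [k, hy] using this

end Cfsg.Agent.FrobSection
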