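import Cfsg.Agent.Lib.FrobSection.Sections
import Cfsg.Agent.Lib.Blocks.Local

/-!
# Inner products against functions read off the `p`-part

`avg` (mean over the section), `Setup.classInner_tau`, and for the principal block
`Setup.apply_eq_avg`, `Setup.avg_eq_zero_of_notMem`, `Setup.avg_ne_zero_of_mem`.
-/

set_option autoImplicit false

open scoped ComplexConjugate

namespace Cfsg.Agent.FrobSection

open Cfsg Cfsg.Agent

universe u

variable {G : Type u} [Group G] [Finite G] {p : ℕ} [Fact p.Prime]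

/-- The elements with `p`-part `y`. -/
def fib (p : ℕ) [Fact p.Prime] (y : G) : Set G := {g | pp p g = y}

/-- The mean of a function over the elements with `p`-part `y`. -/
noncomputable def avg (p : ℕ) [Fact p.Prime] (Φ : G → ℂ) (y : G) : ℂ :=
  (Nat.card (fib p y) : ℂ)⁻¹ * ∑ᶠ g ∈ fib p y, Φ g

variable {P : Sylow p G}

theorem nonempty_fib (y : ↥(P : Subgroup G)) : Nonempty (fib p (y : G)) :=
  ⟨⟨y, pp_eq_self (IsPGroup.iff_orderOf.mp P.2 y |>.imp fun k hk => by
    rwa [Subgroup.orderOf_coe])⟩⟩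

/-- The section over `y` inside the centraliser. -/
theorem fib_equiv (y : ↥(P : Subgroup G)) :
    Nat.card (fib p (y : G)) =
      Nat.card {s : Subgroup.centralizer ({(y : G)} : Set G) // ¬ p ∣ orderOf s} := by
  refine Nat.card_congr (Equiv.symm (Equiv.ofBijective
    (fun s => ⟨(y : G) * ((s.1 : Subgroup.centralizer ({(y : G)} : Set G)) : G), ?_⟩) ⟨?_, ?_⟩))
  · refine pp_eq ⟨_, rfl, (Subgroup.mem_centralizer_iff.mp s.1.2 _ rfl), ?_,
      by rw [Subgroup.orderOf_coe]; exact s.2⟩
    obtain ⟨k, hk⟩ := IsPGroup.iff_orderOf.mp P.2 y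
    exact ⟨k, by rwa [Subgroup.orderOf_coe]⟩
  · intro s t h
    exact Subtype.ext (Subtype.ext (mul_left_cancel (congrArg Subtype.val h)))
  · rintro ⟨g, hg⟩
    obtain ⟨z, he, hc, -, hz⟩ := isPPart_pp (p := p) g
    rw [show pp p g = (y : G) from hg] at he hc
    refine ⟨⟨⟨z, Subgroup.mem_centralizer_singleton_iff.mpr hc.symm.eq⟩, ?_⟩, Subtype.ext he⟩
    rw [← Subgroup.orderOf_coe]; exact hz

theorem Setup.card_fib_mul (hS : Setup P) {y : ↥(P : Subgroup G)} (hy : y ≠ 1) :
    Nat.card (fib p (y : G)) * Nat.card (P : Subgroup G) =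
      Nat.card (Subgroup.centralizer ({(y : G)} : Set G)) := by
  haveI := hS.comm
  obtain ⟨Q, K, hK, hKQ⟩ := hS.hasNormalPComplement hy
  have hQ : Nat.card (Q : Subgroup (Subgroup.centralizer ({(y : G)} : Set G))) =
      Nat.card (P : Subgroup G) := by
    have hle : (P : Subgroup G) ≤ Subgroup.centralizer ({(y : G)} : Set G) := fun z hz =>
      Subgroup.mem_centralizer_singleton_iff.mpr
        (congrArg Subtype.val (mul_comm' (⟨z, hz⟩ : (P : Subgroup G)) y))
    rw [Q.card_eq_multiplicity, ← (P.subtype hle).card_eq_multiplicity, Sylow.coe_subtype]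
    exact Nat.card_congr (Subgroup.subgroupOfEquivOfLe hle).toEquiv
  have hcopK : ¬ p ∣ Nat.card K := by
    have h : Nat.card K = (Q : Subgroup (Subgroup.centralizer ({(y : G)} : Set G))).index := by
      have h1 := hKQ.card_mul
      rw [← Subgroup.index_mul_card (Q : Subgroup (Subgroup.centralizer ({(y : G)} : Set G)))] at h1
      exact Nat.eq_of_mul_eq_mul_right Nat.card_pos h1
    rw [h]
    exact Q.not_dvd_index
  have hreg : ∀ s : Subgroup.centralizer ({(y : G)} : Set G), ¬ p ∣ orderOf s ↔ s ∈ K := by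
    intro s
    refine ⟨fun hs => ?_, fun hs h => hcopK (h.trans (Subgroup.orderOf_dvd_natCard K hs))⟩
    rw [← QuotientGroup.eq_one_iff s]
    have hQK : Nat.card (_ ⧸ K) = Nat.card (P : Subgroup G) := by
      rw [← Subgroup.index_eq_card, hKQ.symm.index_eq_card, hQ]
    obtain ⟨k, hk⟩ := IsPGroup.iff_card.mp P.2
    refine Transfer.map_eq_one_of_coprime (IsPGroup.of_card (hQK.trans hk)) (QuotientGroup.mk' K) ?_
    exact ((Fact.out : p.Prime).coprime_iff_not_dvd.mpr hs).symm
  rw [fib_equiv, Nat.card_congr (Equiv.subtypeEquivRight hreg), ← hQ]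
  exact hKQ.card_mul

variable [Fintype G]

theorem avg_mul (Φ : G → ℂ) (y : ↥(P : Subgroup G)) [DecidableEq G] :
    (Nat.card (fib p (y : G)) : ℂ) * avg p Φ (y : G) =
      ∑ g ∈ Finset.univ.filter (fun g => pp p g = (y : G)), Φ g := by
  haveI := nonempty_fib y
  rw [avg, ← mul_assoc, mul_inv_cancel₀ (Nat.cast_ne_zero.mpr Nat.card_pos.ne'), one_mul,
    finsum_mem_eq_sum_of_inter_support_eq]
  ext g
  simp [fib]

open Classical in
/-- Summing a class function over the classes meeting one section. -/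
theorem sum_class_section {Φ : G → ℂ} (hΦ : IsClassFunction G Φ) (y : G) :
    (Nat.card (Subgroup.centralizer ({y} : Set G)) : ℂ) *
      ∑ g ∈ Finset.univ.filter (fun g => IsConj y (pp p g)), Φ g =
      (Nat.card G : ℂ) * ∑ g ∈ Finset.univ.filter (fun g => pp p g = y), Φ g := by
  have hinner : ∀ x : G, ∑ g ∈ Finset.univ.filter (fun g => pp p g = x * y * x⁻¹), Φ g =
      ∑ g ∈ Finset.univ.filter (fun g => pp p g = y), Φ g := by
    intro x
    refine Finset.sum_equiv (MulAut.conj x⁻¹).toEquiv (fun g => ?_) (fun g _ => ?_)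
    · simp only [Finset.mem_filter, Finset.mem_univ, true_and, MulEquiv.toEquiv_eq_coe,
        MulEquiv.coe_toEquiv, MulAut.conj_apply, pp_conj]
      constructor
      · intro h; rw [h]; group
      · intro h; rw [← h]; group
    · show Φ g = Φ (x⁻¹ * g * x⁻¹⁻¹)
      rw [hΦ]
  have h1 : ∑ x : G, ∑ g ∈ Finset.univ.filter (fun g => pp p g = x * y * x⁻¹), Φ g =
      (Nat.card G : ℂ) * ∑ g ∈ Finset.univ.filter (fun g => pp p g = y), Φ g := by
    rw [Finset.sum_congr rfl fun x _ => hinner x, Finset.sum_const, Finset.card_univ, nsmul_eq_mul,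
      Nat.card_eq_fintype_card]
  rw [← h1]
  simp only [Finset.sum_filter]
  rw [Finset.sum_comm, Finset.mul_sum]
  refine Finset.sum_congr rfl fun g _ => ?_
  rw [← Finset.sum_filter, Finset.sum_const, nsmul_eq_mul]
  by_cases hg : IsConj y (pp p g)
  · rw [if_pos hg]
    congr 2
    obtain ⟨c, hc⟩ := isConj_iff.mp hg
    rw [Nat.card_eq_fintype_card, ← Finset.card_univ]
    symm
    refine Finset.card_bij (fun x hx => ⟨c⁻¹ * x, Subgroup.mem_centralizer_singleton_iff.mpr ?_⟩)
      (fun _ _ => Finset.mem_univ _) ?_ ?_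
    · have h := ((Finset.mem_filter.mp hx).2).symm.trans hc.symm
      calc c⁻¹ * x * y = c⁻¹ * (x * y * x⁻¹) * x := by group
        _ = y * (c⁻¹ * x) := by rw [h]; group
    · intro x _ x' _ h
      exact mul_left_cancel (congrArg Subtype.val h)
    · rintro ⟨z, hz⟩ -
      refine ⟨c * z, Finset.mem_filter.mpr ⟨Finset.mem_univ _, ?_⟩, Subtype.ext (by simp)⟩
      have hz' := Subgroup.mem_centralizer_singleton_iff.mp hz
      rw [← hc, show c * z * y * (c * z)⁻¹ = c * (z * y * z⁻¹) * c⁻¹ by group, hz',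
        mul_inv_cancel_right]
  · rw [if_neg hg, mul_zero, Finset.filter_false_of_mem (fun x _ h => hg (isConj_iff.mpr ⟨x, h.symm⟩)),
      Finset.card_empty, Nat.cast_zero, zero_mul]

open Classical in
theorem Setup.card_conj_eq (hS : Setup P) {y : ↥(P : Subgroup G)} (hy : y ≠ 1) :
    (Finset.univ.filter fun z : ↥(P : Subgroup G) => IsConj (y : G) (z : G)).card =
      Nat.card (autP P) := by
  rw [Nat.card_eq_fintype_card, ← Finset.card_univ]
  symm
  refine Finset.card_bij (fun a _ => a.1 y)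
    (fun a _ => Finset.mem_filter.mpr ⟨Finset.mem_univ _, isConj_aut a.2 y⟩) ?_ ?_
  · intro a _ b _ h
    refine Subtype.ext (inv_mul_eq_one.mp (hS.fpf (mul_mem (inv_mem b.2) a.2) hy ?_)).symm
    rw [MulAut.mul_apply, h, MulAut.inv_apply, MulEquiv.symm_apply_apply]
  · intro z hz
    obtain ⟨a, ha, hay⟩ := hS.exists_aut (Finset.mem_filter.mp hz).2
    exact ⟨⟨a, ha⟩, Finset.mem_univ _, hay⟩

open Classical in
/-- The inner product of a function read off the `p`-part with a class function. -/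
theorem Setup.classInner_tau (hS : Setup P) {f : ↥(P : Subgroup G) → ℂ}
    (hf : ∀ a ∈ autP P, ∀ y, f (a y) = f y) (hf1 : f 1 = 0) {Φ : G → ℂ} (hΦ : IsClassFunction G Φ) :
    classInner (tau P f) Φ = (Nat.card (P : Subgroup G) : ℂ)⁻¹ * (Nat.card (autP P) : ℂ)⁻¹ *
      ∑ y : ↥(P : Subgroup G), f y * conj (avg p Φ (y : G)) := by
  set m : ℂ := (Nat.card (autP P) : ℂ)
  have hm : m ≠ 0 := Nat.cast_ne_zero.mpr Nat.card_pos.ne'
  have hG : (Nat.card G : ℂ) ≠ 0 := Nat.cast_ne_zero.mpr Nat.card_pos.ne'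
  have hpt : ∀ g : G, m * (tau P f g * conj (Φ g)) =
      ∑ y ∈ Finset.univ.filter (fun y : ↥(P : Subgroup G) => IsConj (y : G) (pp p g)),
        f y * conj (Φ g) := by
    intro g
    obtain ⟨y₀, hy₀⟩ := exists_rep P g
    rw [hS.tau_apply hf hy₀, Finset.sum_congr rfl (g := fun _ => f y₀ * conj (Φ g))]
    · by_cases h : y₀ = 1
      · simp [h, hf1]
      · rw [Finset.sum_const, nsmul_eq_mul,
          Finset.filter_congr (q := fun y : ↥(P : Subgroup G) => IsConj (y₀ : G) (y : G))
            (fun y _ => ⟨fun k => (k.trans hy₀).symm, fun k => k.symm.trans hy₀.symm⟩),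
          hS.card_conj_eq h]
    · intro y hy
      obtain ⟨a, ha, hay⟩ := hS.exists_aut ((Finset.mem_filter.mp hy).2.trans hy₀)
      rw [← hay, hf a ha]
  have hsum : m * ∑ g : G, tau P f g * conj (Φ g) =
      (Nat.card G : ℂ) * ((Nat.card (P : Subgroup G) : ℂ)⁻¹ *
        ∑ y : ↥(P : Subgroup G), f y * conj (avg p Φ (y : G))) := by
    rw [Finset.mul_sum, Finset.sum_congr rfl fun g _ => hpt g]
    simp only [Finset.sum_filter]
    rw [Finset.sum_comm, Finset.mul_sum, Finset.mul_sum]
    refine Finset.sum_congr rfl fun y _ => ?_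
    by_cases hy : y = 1
    · simp [hy, hf1]
    rw [← Finset.sum_filter, ← Finset.mul_sum, ← map_sum]
    have h1 := congrArg conj (sum_class_section (p := p) hΦ (y : G))
    have h2 := congrArg conj (avg_mul (p := p) Φ y)
    simp only [map_mul, map_natCast] at h1 h2
    have h3 : (Nat.card (Subgroup.centralizer ({(y : G)} : Set G)) : ℂ) =
        (Nat.card (fib p (y : G)) : ℂ) * (Nat.card (P : Subgroup G) : ℂ) := by
      rw [← Nat.cast_mul, hS.card_fib_mul hy]
    rw [← h2, h3] at h1
    have hn : (Nat.card (fib p (y : G)) : ℂ) ≠ 0 := by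
      haveI := nonempty_fib y
      exact Nat.cast_ne_zero.mpr Nat.card_pos.ne'
    have hq : (Nat.card (P : Subgroup G) : ℂ) ≠ 0 := Nat.cast_ne_zero.mpr Nat.card_pos.ne'
    field_simp
    refine mul_left_cancel₀ hn ?_
    linear_combination (f y) * h1
  rw [classInner]
  field_simp at hsum ⊢
  linear_combination hsum

/-! ### The principal block -/

variable {M : Ideal AlgInt}

theorem Setup.apply_eq_avg (hS : Setup P) (hM : IsPModular p M) {χ : IrrCharacter G}
    (hχ : χ ∈ principalBlock M G) {y : ↥(P : Subgroup G)} (hy : y ≠ 1) {g : G}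
    (hg : pp p g = (y : G)) :
    (χ : G → ℂ) g = (χ : G → ℂ) (y : G) ∧ avg p (χ : G → ℂ) (y : G) = (χ : G → ℂ) (y : G) := by
  classical
  have key : ∀ g : G, pp p g = (y : G) → (χ : G → ℂ) g = (χ : G → ℂ) (y : G) := by
    intro g hg
    obtain ⟨z, he, hc, hx, hz⟩ := isPPart_pp (p := p) g
    rw [hg] at he hc hx
    rw [← he]
    exact SecondMain.apply_shift_principal hM hx
      (H := Subgroup.centralizer ({(y : G)} : Set G))
      (fun h => Subgroup.mem_centralizer_singleton_iff.trans ⟨fun k => k.symm, fun k => k.symm⟩)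
      (hS.hasNormalPComplement hy) hχ
      (s := ⟨z, Subgroup.mem_centralizer_singleton_iff.mpr hc.symm.eq⟩)
      (by rw [← Subgroup.orderOf_coe]; exact hz)
  refine ⟨key g hg, ?_⟩
  haveI := nonempty_fib y
  refine mul_left_cancel₀ (Nat.cast_ne_zero.mpr (Nat.card_pos (α := fib p (y : G))).ne') ?_
  rw [avg_mul, Finset.sum_congr rfl fun g hg => key g (Finset.mem_filter.mp hg).2, Finset.sum_const,
    nsmul_eq_mul]
  congr 2
  rw [Nat.card_eq_fintype_card, Fintype.card_ofFinset]
  · congr 1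

open Classical in
theorem Setup.sum_avg_sq (hS : Setup P) [Fintype (IrrCharacter G)] {y : ↥(P : Subgroup G)}
    (hy : y ≠ 1) :
    ∑ χ : IrrCharacter G, avg p (χ : G → ℂ) (y : G) * conj (avg p (χ : G → ℂ) (y : G)) =
      (Nat.card (P : Subgroup G) : ℂ) := by
  haveI := nonempty_fib y
  set n : ℂ := (Nat.card (fib p (y : G)) : ℂ)
  have hn : n ≠ 0 := Nat.cast_ne_zero.mpr Nat.card_pos.ne'
  set F := Finset.univ.filter (fun g => pp p g = (y : G)) with hF
  have hrow : ∀ g ∈ F, ∑ h ∈ F, (if IsConj g h then (Nat.card (Subgroup.centralizer ({g} : Set G)) : ℂ)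
      else 0) = (Nat.card (Subgroup.centralizer ({(y : G)} : Set G)) : ℂ) := by
    intro g hg
    have hgy : pp p g = (y : G) := (Finset.mem_filter.mp hg).2
    rw [← Finset.sum_filter, Finset.sum_const, nsmul_eq_mul, ← Nat.cast_mul, Nat.cast_inj]
    have hfib : ∀ h ∈ F.filter (fun h => IsConj g h),
        ((Finset.univ : Finset (Subgroup.centralizer ({(y : G)} : Set G))).filter
          (fun x : Subgroup.centralizer ({(y : G)} : Set G) => (x : G) * g * (x : G)⁻¹ = h)).card =
            Nat.card (Subgroup.centralizer ({g} : Set G)) := by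
      intro h hh
      obtain ⟨hhF, hgh⟩ := Finset.mem_filter.mp hh
      obtain ⟨c, hc⟩ := isConj_iff.mp hgh
      have hcy : ∀ x : G, x * g * x⁻¹ = h → x ∈ Subgroup.centralizer ({(y : G)} : Set G) := by
        intro x hx
        have := pp_conj (p := p) x g
        rw [hx, (Finset.mem_filter.mp hhF).2, hgy, eq_comm, mul_inv_eq_iff_eq_mul] at this
        exact Subgroup.mem_centralizer_singleton_iff.mpr this
      rw [Nat.card_eq_fintype_card, ← Finset.card_univ]
      refine Finset.card_bij (fun x hx => ⟨c⁻¹ * (x : G), Subgroup.mem_centralizer_singleton_iff.mpr ?_⟩)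
        (fun _ _ => Finset.mem_univ _) ?_ ?_
      · have h' := ((Finset.mem_filter.mp hx).2).trans hc.symm
        calc c⁻¹ * (x : G) * g = c⁻¹ * ((x : G) * g * (x : G)⁻¹) * (x : G) := by group
          _ = g * (c⁻¹ * (x : G)) := by rw [h']; group
      · intro x _ x' _ e
        exact Subtype.ext (mul_left_cancel (congrArg Subtype.val e))
      · rintro ⟨z, hz⟩ -
        have hz' := Subgroup.mem_centralizer_singleton_iff.mp hz
        have : c * z * g * (c * z)⁻¹ = h := by
          rw [show c * z * g * (c * z)⁻¹ = c * (z * g * z⁻¹) * c⁻¹ by group, hz',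
            mul_inv_cancel_right, hc]
        exact ⟨⟨c * z, hcy _ this⟩, Finset.mem_filter.mpr ⟨Finset.mem_univ _, this⟩,
          Subtype.ext (by simp)⟩
    conv_rhs => rw [Nat.card_eq_fintype_card, ← Finset.card_univ]
    rw [Finset.card_eq_sum_card_fiberwise (s := Finset.univ) (t := F.filter fun h => IsConj g h)
      (f := fun x : Subgroup.centralizer ({(y : G)} : Set G) => (x : G) * g * (x : G)⁻¹),
      Finset.sum_congr rfl hfib, Finset.sum_const, smul_eq_mul]
    intro x _
    refine Finset.mem_filter.mpr ⟨Finset.mem_filter.mpr ⟨Finset.mem_univ _, ?_⟩,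
      isConj_iff.mpr ⟨x, rfl⟩⟩
    rw [pp_conj, hgy, Subgroup.mem_centralizer_singleton_iff.mp x.2, mul_inv_cancel_right]
  have hsq : ∑ χ : IrrCharacter G, (n * avg p (χ : G → ℂ) (y : G)) * conj (n * avg p (χ : G → ℂ) (y : G))
      = n * (Nat.card (Subgroup.centralizer ({(y : G)} : Set G)) : ℂ) := by
    simp only [n, avg_mul]
    simp only [map_sum, Finset.sum_mul_sum]
    rw [Finset.sum_comm]
    rw [Finset.sum_congr rfl fun g _ => Finset.sum_comm]
    rw [Finset.sum_congr rfl fun g hg => (Finset.sum_congr rfl fun h _ => Char.column_orth g h).trans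
      (hrow g hg), Finset.sum_const, nsmul_eq_mul]
    congr 2
    rw [Nat.card_eq_fintype_card, Fintype.card_ofFinset]
    congr 1
  have hC : (Nat.card (Subgroup.centralizer ({(y : G)} : Set G)) : ℂ) =
      n * (Nat.card (P : Subgroup G) : ℂ) := by
    simp only [n]
    rw [← Nat.cast_mul, hS.card_fib_mul hy]
  rw [hC] at hsq
  refine mul_left_cancel₀ (mul_ne_zero hn hn) ?_
  rw [Finset.mul_sum, mul_assoc n n (Nat.card (P : Subgroup G) : ℂ), ← hsq]
  refine Finset.sum_congr rfl fun χ _ => ?_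
  simp only [n, map_mul, map_natCast]
  ring

theorem Setup.avg_eq_zero_of_notMem (hS : Setup P) (hM : IsPModular p M) {χ : IrrCharacter G}
    (hχ : χ ∉ principalBlock M G) {y : ↥(P : Subgroup G)} (hy : y ≠ 1) :
    avg p (χ : G → ℂ) (y : G) = 0 := by
  classical
  have := Fintype.ofFinite (IrrCharacter G)
  haveI := nonempty_fib y
  have hB := SecondMain.sum_sq_principal_of_complement hM
    (x := (y : G)) (H := Subgroup.centralizer ({(y : G)} : Set G))
    (IsPGroup.iff_orderOf.mp P.2 y |>.imp fun k hk => by rwa [Subgroup.orderOf_coe])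
    (fun h => Subgroup.mem_centralizer_singleton_iff.trans ⟨fun k => k.symm, fun k => k.symm⟩)
    (hS.hasNormalPComplement hy)
  have hcard : ((Finset.univ.filter fun s : Subgroup.centralizer ({(y : G)} : Set G) =>
      ¬ p ∣ orderOf s).card) = Nat.card (fib p (y : G)) := by
    rw [fib_equiv, Nat.card_eq_fintype_card, Fintype.card_subtype]
  rw [hcard, ← hS.card_fib_mul hy, Nat.cast_mul] at hB
  have hB' := mul_left_cancel₀ (Nat.cast_ne_zero.mpr Nat.card_pos.ne') hB
  rw [finsum_mem_eq_toFinset_sum, ← hS.sum_avg_sq hy, Set.toFinset_congr (Set.ofPred_mem_eq.symm),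
    Set.toFinset_ofPred] at hB'
  set S := Finset.univ.filter (fun χ : IrrCharacter G => χ ∈ principalBlock M G)
  rw [← Finset.sum_filter_add_sum_filter_not Finset.univ (fun χ => χ ∈ principalBlock M G)] at hB'
  have hS' : ∑ χ ∈ S, (χ : G → ℂ) (y : G) * conj ((χ : G → ℂ) (y : G)) =
      ∑ χ ∈ S, avg p (χ : G → ℂ) (y : G) * conj (avg p (χ : G → ℂ) (y : G)) :=
    Finset.sum_congr rfl fun χ hχ => by
      rw [(hS.apply_eq_avg hM (Finset.mem_filter.mp hχ).2 hy
        (pp_eq_self (IsPGroup.iff_orderOf.mp P.2 y |>.imp fun k hk => by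
          rwa [Subgroup.orderOf_coe]))).2]
  rw [hS', left_eq_add] at hB'
  simp only [Complex.mul_conj] at hB'
  rw [← Complex.ofReal_sum, Complex.ofReal_eq_zero] at hB'
  have := (Finset.sum_eq_zero_iff_of_nonneg fun i _ => Complex.normSq_nonneg _).mp hB' χ
    (Finset.mem_filter.mpr ⟨Finset.mem_univ _, hχ⟩)
  exact Complex.normSq_eq_zero.mp this

/-- A principal character does not vanish on all sections. -/
theorem Setup.exists_apply_ne_zero (hS : Setup P) (hM : IsPModular p M)
    (hP1 : Nat.card (P : Subgroup G) ≠ 1) {χ : IrrCharacter G} (hχ : χ ∈ principalBlock M G) :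
    ∃ y : ↥(P : Subgroup G), y ≠ 1 ∧ avg p (χ : G → ℂ) (y : G) ≠ 0 := by
  haveI := hS.comm
  haveI : Nontrivial ↥(P : Subgroup G) :=
    Finite.one_lt_card_iff_nontrivial.mp (lt_of_le_of_ne Nat.card_pos (Ne.symm hP1))
  obtain ⟨y, hy⟩ := exists_ne (1 : ↥(P : Subgroup G))
  refine ⟨y, hy, fun h0 => ?_⟩
  rw [(hS.apply_eq_avg hM hχ hy (pp_eq_self (IsPGroup.iff_orderOf.mp P.2 y |>.imp fun k hk => by
    rwa [Subgroup.orderOf_coe]))).2] at h0
  have h : MemLocalIdeal M ((Subgroup.centralizer ({(y : G)} : Set G)).index : ℂ) := by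
    have := hχ (y : G)
    simpa [centralChar, h0] using this
  have hle : (P : Subgroup G) ≤ Subgroup.centralizer ({(y : G)} : Set G) := fun z hz =>
    Subgroup.mem_centralizer_singleton_iff.mpr
      (congrArg Subtype.val (mul_comm' (⟨z, hz⟩ : (P : Subgroup G)) y))
  exact Blocks.not_memI_natCast hM (fun h' => P.not_dvd_index
    (h'.trans (Subgroup.index_dvd_of_le hle))) h

end Cfsg.Agent.FrobSection
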