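import Cfsg.Agent.Lib.FrobSection.Dual

/-!
# The principal block for an abelian Sylow subgroup with fixed-point-free normalizer

`Data` and `Setup.exists_data`: exceptional characters, the remaining members and their values.
-/

set_option autoImplicit false

open scoped ComplexConjugate
open scoped Classical

namespace Cfsg.Agent.FrobSection

open Cfsg Cfsg.Agent

universe u

variable {G : Type u} [Group G] [Finite G] {p : ℕ} [Fact p.Prime] {P : Sylow p G}

theorem avg_aut {Φ : G → ℂ} (hΦ : IsClassFunction G Φ) {a : MulAut ↥(P : Subgroup G)}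
    (ha : a ∈ autP P) (y : ↥(P : Subgroup G)) :
    avg p Φ ((a y : ↥(P : Subgroup G)) : G) = avg p Φ (y : G) := by
  obtain ⟨n, -, hna⟩ := (mem_autP P).mp ha
  have hbij : Set.BijOn (fun g => n * g * n⁻¹) (fib p (y : G)) (fib p (n * (y : G) * n⁻¹)) := by
    refine ⟨fun g hg => ?_, fun g _ g' _ h => (MulAut.conj n).injective h, fun g hg => ?_⟩
    · show pp p (n * g * n⁻¹) = _
      rw [pp_conj, hg]
    · refine ⟨n⁻¹ * g * n⁻¹⁻¹, ?_, by group⟩
      show pp p _ = _
      rw [pp_conj, hg]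
      group
  rw [avg, avg, hna, finsum_mem_eq_of_bijOn _ hbij fun g _ => (hΦ g n).symm]
  congr 2
  rw [← hbij.image_eq]
  exact congrArg Nat.cast (Nat.card_image_of_injective (f := fun g => n * g * n⁻¹)
    (fun g g' h => (MulAut.conj n).injective h) _)

variable [Fintype G]

/-- An invariant function is the function of means of a character once the inner products match. -/
theorem Setup.avg_eq_of_inner (hS : Setup P) {χ : G → ℂ} (hχ : IsClassFunction G χ)
    {h : ↥(P : Subgroup G) → ℂ} (hh : ∀ a ∈ autP P, ∀ y, h (a y) = h y)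
    (hin : ∀ ψ : Dual P, ψ ≠ 1 → classInner (tau P (orb₀ ψ)) χ =
      (Nat.card (P : Subgroup G) : ℂ)⁻¹ * (Nat.card (autP P) : ℂ)⁻¹ *
        ∑ y : ↥(P : Subgroup G), orb₀ ψ y * conj (h y))
    {y : ↥(P : Subgroup G)} (hy : y ≠ 1) : avg p χ (y : G) = h y := by
  refine sub_eq_zero.mp (hS.eq_zero_of_orth (h := fun z => avg p χ (z : G) - h z) ?_ ?_ hy)
  · intro a ha z
    show avg p χ _ - h (a z) = avg p χ _ - h z
    rw [avg_aut hχ ha, hh a ha]
  · intro ψ hψ
    have h1 := hS.classInner_tau (fun a ha y => orb₀_inv ψ ha y) (orb₀_apply_one ψ) hχ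
    rw [hin ψ hψ] at h1
    have h2 := mul_left_cancel₀ (mul_ne_zero (inv_ne_zero (Nat.cast_ne_zero.mpr Nat.card_pos.ne'))
      (inv_ne_zero (Nat.cast_ne_zero.mpr Nat.card_pos.ne'))) h1
    simp only [map_sub, mul_sub, Finset.sum_sub_distrib, h2, sub_self]

theorem Setup.avg_tau (hS : Setup P) {f : ↥(P : Subgroup G) → ℂ}
    (hf : ∀ a ∈ autP P, ∀ y, f (a y) = f y) (y : ↥(P : Subgroup G)) :
    avg p (tau P f) (y : G) = f y := by
  haveI := nonempty_fib y
  refine mul_left_cancel₀ (Nat.cast_ne_zero.mpr (Nat.card_pos (α := fib p (y : G))).ne') ?_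
  rw [avg_mul, Finset.sum_congr rfl (g := fun _ => f y) (fun g hg => hS.tau_apply hf
    (by rw [(Finset.mem_filter.mp hg).2])), Finset.sum_const, nsmul_eq_mul]
  congr 2
  rw [Nat.card_eq_fintype_card, Fintype.card_ofFinset]
  congr 1

theorem sum_orb₀_mul_conj (hS : Setup P) {ψ φ : Dual P} (hψ : ψ ≠ 1) (hφ : φ ≠ 1) :
    ∑ y : ↥(P : Subgroup G), orb₀ ψ y * conj (orb₀ φ y) =
      (Nat.card ↥(P : Subgroup G) : ℂ) * (Nat.card (autP P) : ℂ) *
        ((if orb ψ = orb φ then 1 else 0) + (Nat.card (autP P) : ℂ)) := by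
  have h1 := hS.sum_orb_mul_conj (ψ := ψ) (φ := φ) hψ
  have h2 := hS.sum_orb hψ
  have h3 := congrArg conj (hS.sum_orb hφ)
  rw [map_sum, map_zero] at h3
  simp only [orb₀, map_sub, map_natCast, sub_mul, mul_sub, Finset.sum_sub_distrib, ← Finset.mul_sum,
    ← Finset.sum_mul, h1, h2, h3, zero_mul, mul_zero, Finset.sum_const, Finset.card_univ,
    nsmul_eq_mul, ← Nat.card_eq_fintype_card]
  split_ifs <;> ring

theorem sum_orb₀_mul_const (hS : Setup P) {ψ : Dual P} (hψ : ψ ≠ 1) (c : ℂ) :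
    ∑ y : ↥(P : Subgroup G), orb₀ ψ y * c =
      -((Nat.card ↥(P : Subgroup G) : ℂ) * (Nat.card (autP P) : ℂ) * c) := by
  rw [← Finset.sum_mul]
  simp only [orb₀, Finset.sum_sub_distrib, hS.sum_orb hψ, Finset.sum_const, Finset.card_univ,
    nsmul_eq_mul, ← Nat.card_eq_fintype_card]
  ring

/-! ### The abstract coherence argument -/

/-- Virtual characters with pairwise inner products `δ + m` come from exceptional characters. -/
theorem exceptional_of_inner {ι : Type*} [Fintype ι] (v : ι → G → ℂ) (m : ℕ)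
    (hgc : ∀ i, IsGeneralizedCharacter G (v i)) (hone : ∀ i, v i 1 = 0)
    (hin : ∀ i j, classInner (v i) (v j) = (if i = j then 1 else 0) + (m : ℂ))
    (h1 : ∀ i, classInner (v i) (fun _ => 1) = -1) (hι : 2 ≤ Fintype.card ι) :
    ∃ (δ d : ℤ) (z : ι → IrrCharacter G) (a : IrrCharacter G → ℤ), (δ = 1 ∨ δ = -1) ∧
      Function.Injective z ∧ (∀ j, a (z j) = 0) ∧
      (∀ χ : IrrCharacter G, (χ : G → ℂ) = (fun _ => 1) → a χ = 1) ∧
      (∀ i, ∀ χ : IrrCharacter G, classInner (v i) (χ : G → ℂ) =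
        (δ : ℂ) * (if χ = z i then 1 else 0) - (d : ℂ) * (if χ ∈ Set.range z then 1 else 0) - a χ) ∧
      ∀ [Fintype (IrrCharacter G)], (d - δ) ^ 2 + ((Fintype.card ι : ℤ) - 1) * d ^ 2 +
        ∑ χ : IrrCharacter G, a χ ^ 2 = (m : ℤ) + 1 := by
  letI hI : Fintype (IrrCharacter G) := Fintype.ofFinite (IrrCharacter G)
  obtain ⟨i₀⟩ : Nonempty ι := Fintype.card_pos_iff.mp (by omega)
  -- the differences
  have hdiff : ∀ i, i ≠ i₀ → ∃ μ ν : IrrCharacter G, μ ≠ ν ∧
      v i - v i₀ = (μ : G → ℂ) - (ν : G → ℂ) := by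
    intro i hi
    obtain ⟨μ, ν, hμ, hν, hne, he⟩ := Coherence.gc_norm_two
      (θ := v i - v i₀) (Coherence.isGC_sub (hgc i) (hgc i₀))
      (by simp only [Char.classInner_sub_left, Char.classInner_sub_right, hin, if_true, if_neg hi,
            if_neg (Ne.symm hi)]; ring)
      (by simp [hone])
    exact ⟨⟨μ, hμ⟩, ⟨ν, hν⟩, fun e => hne (congrArg Subtype.val e), he⟩
  choose μ ν hne hd using hdiff
  have hirr : ∀ α β : IrrCharacter G, classInner (α : G → ℂ) (β : G → ℂ) = if α = β then 1 else 0 := by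
    intro α β
    split_ifs with h
    · rw [h, Char.classInner_irr_self β.2]
    · exact Char.classInner_irr_of_ne α.2 β.2 fun e => h (Subtype.ext e)
  have hpair : ∀ i (hi : i ≠ i₀) j (hj : j ≠ i₀), i ≠ j →
      (μ i hi = μ j hj ∧ ν i hi ≠ ν j hj ∨ μ i hi ≠ μ j hj ∧ ν i hi = ν j hj) := by
    intro i hi j hj hij
    have h : classInner (v i - v i₀) (v j - v i₀) = 1 := by
      simp only [Char.classInner_sub_left, Char.classInner_sub_right, hin, if_true, if_neg hi,
        if_neg hij, if_neg (Ne.symm hj)]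
      ring
    rw [hd i hi, hd j hj] at h
    simp only [Char.classInner_sub_left, Char.classInner_sub_right, hirr] at h
    by_cases e1 : μ i hi = μ j hj <;> by_cases e2 : ν i hi = ν j hj
    · have a1 : μ i hi ≠ ν j hj := e1 ▸ hne j hj
      have a2 : ν i hi ≠ μ j hj := e1 ▸ (hne i hi).symm
      rw [if_pos e1, if_pos e2, if_neg a1, if_neg a2] at h
      norm_num at h
    · exact Or.inl ⟨e1, e2⟩
    · exact Or.inr ⟨e1, e2⟩
    · rw [if_neg e1, if_neg e2] at h
      split_ifs at h <;> norm_num at h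
  -- a common member
  have hcommon : (∃ α, ∀ i hi, ν i hi = α) ∨ ∃ α, ∀ i hi, μ i hi = α := by
    obtain ⟨i₁, hi₁⟩ := Fintype.exists_ne_of_one_lt_card (by omega : 1 < Fintype.card ι) i₀
    by_cases h : ∀ i hi, ν i hi = ν i₁ hi₁
    · exact Or.inl ⟨_, h⟩
    push Not at h
    obtain ⟨j, hj, hjne⟩ := h
    have hμj : μ j hj = μ i₁ hi₁ := by
      rcases hpair j hj i₁ hi₁ (fun e => hjne (by subst e; rfl)) with h' | h'
      · exact h'.1
      · exact absurd h'.2 hjne
    refine Or.inr ⟨μ i₁ hi₁, fun i hi => ?_⟩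
    by_contra hne'
    have hij₁ : i ≠ i₁ := fun e => hne' (by subst e; rfl)
    have hij : i ≠ j := fun e => hne' (by subst e; exact hμj)
    have e1 : ν i hi = ν i₁ hi₁ := by
      rcases hpair i hi i₁ hi₁ hij₁ with h' | h'
      · exact absurd h'.1 hne'
      · exact h'.2
    have e2 : ν i hi = ν j hj := by
      rcases hpair i hi j hj hij with h' | h'
      · exact absurd (h'.1.trans hμj) hne'
      · exact h'.2
    exact hjne (e2.symm.trans e1)
  obtain ⟨δ, hδ, z, hz⟩ : ∃ (δ : ℤ), (δ = 1 ∨ δ = -1) ∧ ∃ z : ι → IrrCharacter G,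
      ∀ i, v i - v i₀ = (δ : ℂ) • ((z i : G → ℂ) - (z i₀ : G → ℂ)) := by
    rcases hcommon with ⟨α, hα⟩ | ⟨α, hα⟩
    · refine ⟨1, Or.inl rfl, fun i => if hi : i = i₀ then α else μ i hi, fun i => ?_⟩
      by_cases hi : i = i₀
      · simp [hi]
      · simp only [dif_neg hi, dite_true, hd i hi, hα i hi]
        simp
    · refine ⟨-1, Or.inr rfl, fun i => if hi : i = i₀ then α else ν i hi, fun i => ?_⟩
      by_cases hi : i = i₀
      · simp [hi]
      · simp only [dif_neg hi, dite_true, hd i hi, hα i hi]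
        simp
  have hδ2 : (δ : ℂ) * (δ : ℂ) = 1 := by rcases hδ with rfl | rfl <;> norm_num
  have hδ0 : (δ : ℂ) ≠ 0 := left_ne_zero_of_mul (hδ2 ▸ one_ne_zero)
  have hzinj : Function.Injective z := by
    intro i j hij
    by_contra h
    have h' : classInner (v i - v j) (v i - v j) = 0 := by
      rw [show v i - v j = (v i - v i₀) - (v j - v i₀) by abel, hz, hz, hij, sub_self]
      simp
    simp only [Char.classInner_sub_left, Char.classInner_sub_right, hin, if_true, if_neg h,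
      if_neg (Ne.symm h)] at h'
    ring_nf at h'
    norm_num at h'
  obtain ⟨c, -, hc, hcn⟩ := Coherence.gc_eq_sum (hgc i₀)
  have hvi : ∀ i (χ : IrrCharacter G), classInner (v i) (χ : G → ℂ) =
      c χ + (δ : ℂ) * ((if χ = z i then 1 else 0) - if χ = z i₀ then 1 else 0) := by
    intro i χ
    rw [← sub_eq_iff_eq_add', ← hc, ← Char.classInner_sub_left, hz, Char.classInner_smul_left,
      Char.classInner_sub_left, hirr, hirr]
    simp only [eq_comm]
  have hrel : ∀ i, i ≠ i₀ → c (z i) = c (z i₀) - δ := by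
    intro i hi
    have h : classInner (v i₀) (v i - v i₀) = -1 := by
      rw [Char.classInner_sub_right, hin, hin, if_neg (Ne.symm hi), if_pos rfl]; ring
    rw [hz, Char.classInner_smul_right, Char.classInner_sub_right, hc, hc, map_intCast] at h
    have h' : δ * (c (z i) - c (z i₀)) = -1 := by exact_mod_cast h
    rcases hδ with rfl | rfl <;> omega
  have hnotone : ∀ j (χ : IrrCharacter G), (χ : G → ℂ) = (fun _ => 1) → χ ≠ z j := by
    intro j χ hχ e
    have h : ∀ i, i ≠ i₀ → χ ≠ z i ∧ χ ≠ z i₀ := by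
      intro i hi
      have h0 : classInner (v i - v i₀) (χ : G → ℂ) = 0 := by
        rw [Char.classInner_sub_left, hχ, h1, h1, sub_self]
      rw [hz, Char.classInner_smul_left, Char.classInner_sub_left, hirr, hirr, mul_eq_zero,
        sub_eq_zero] at h0
      replace h0 := h0.resolve_left hδ0
      constructor <;> intro e' <;> subst e'
      · rw [if_pos rfl, if_neg (hzinj.ne (Ne.symm hi))] at h0; exact one_ne_zero h0
      · rw [if_neg (hzinj.ne hi), if_pos rfl] at h0; exact zero_ne_one h0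
    obtain ⟨i₁, hi₁⟩ := Fintype.exists_ne_of_one_lt_card (by omega : 1 < Fintype.card ι) i₀
    by_cases hj : j = i₀
    · exact (h i₁ hi₁).2 (hj ▸ e)
    · exact (h j hj).1 e
  refine ⟨δ, δ - c (z i₀), z, fun χ => if χ ∈ Set.range z then 0 else -c χ, hδ, hzinj,
    fun j => if_pos ⟨j, rfl⟩, ?_, ?_, ?_⟩
  · intro χ hχ
    simp only
    rw [if_neg (by rintro ⟨j, hj⟩; exact hnotone j χ hχ hj.symm)]
    have := hc χ
    rw [hχ, h1] at this
    have : c χ = -1 := by exact_mod_cast this.symm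
    omega
  · intro i χ
    simp only
    rw [hvi]
    by_cases hχ : χ ∈ Set.range z
    · obtain ⟨j, rfl⟩ := hχ
      rw [if_pos (Set.mem_range_self j), if_pos (Set.mem_range_self j)]
      simp only [hzinj.eq_iff]
      push_cast
      by_cases hj : j = i₀
      · rw [if_pos hj, hj]; ring
      · rw [if_neg hj, hrel j hj]; push_cast; ring
    · rw [if_neg hχ, if_neg hχ, if_neg (fun e => hχ ⟨i, e.symm⟩), if_neg (fun e => hχ ⟨i₀, e.symm⟩)]
      push_cast; ring
  · intro hF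
    obtain rfl : hF = hI := Subsingleton.elim _ _
    rw [hin, if_pos rfl] at hcn
    have hcn' : ((∑ χ : IrrCharacter G, c χ ^ 2 : ℤ)) = 1 + (m : ℤ) := by exact_mod_cast hcn.symm
    have hsplit : ∀ χ : IrrCharacter G, c χ ^ 2 = (if χ ∈ Finset.univ.image z then c χ ^ 2 else 0) +
        (if χ ∈ Set.range z then 0 else -c χ) ^ 2 := by
      intro χ
      by_cases h : χ ∈ Set.range z
      · rw [if_pos h, if_pos (by simpa using h)]; ring
      · rw [if_neg h, if_neg (by simpa using h)]; ring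
    rw [Finset.sum_congr rfl fun χ _ => hsplit χ, Finset.sum_add_distrib, Finset.sum_ite_mem,
      Finset.univ_inter, Finset.sum_image fun x _ y _ h => hzinj h,
      ← Finset.add_sum_erase _ _ (Finset.mem_univ i₀),
      Finset.sum_congr rfl fun i hi => by rw [hrel i (Finset.ne_of_mem_erase hi)],
      Finset.sum_const, nsmul_eq_mul, Finset.card_erase_of_mem (Finset.mem_univ i₀), Finset.card_univ,
      Nat.cast_sub (by omega : 1 ≤ Fintype.card ι)] at hcn'
    push_cast at hcn'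
    linear_combination hcn'

/-! ### The result -/

/-- The description of the principal block. -/
structure Data (P : Sylow p G) (M : Ideal AlgInt) where
  δ : ℤ
  d : ℤ
  ζ : Dual P → IrrCharacter G
  a : IrrCharacter G → ℤ
  X : Set (IrrCharacter G)
  sign : δ = 1 ∨ δ = -1
  ζ_eq_iff : ∀ ψ φ : Dual P, ψ ≠ 1 → φ ≠ 1 → (ζ ψ = ζ φ ↔ orb ψ = orb φ)
  disj : Disjoint X (ζ '' {ψ | ψ ≠ 1})
  block : principalBlock M G = X ∪ ζ '' {ψ | ψ ≠ 1}
  a_ne : ∀ χ ∈ X, a χ ≠ 0
  one : ∃ χ₁ ∈ X, (χ₁ : G → ℂ) = (fun _ => 1) ∧ a χ₁ = 1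
  expand : ∀ ψ : Dual P, ψ ≠ 1 → ∀ g : G, tau P (orb₀ ψ) g = (δ : ℂ) * (ζ ψ : G → ℂ) g -
    (d : ℂ) * ∑ᶠ η ∈ ζ '' {ψ | ψ ≠ 1}, (η : G → ℂ) g - ∑ᶠ χ ∈ X, (a χ : ℂ) * (χ : G → ℂ) g
  norm : (d - δ) ^ 2 + ((Nat.card (ζ '' {ψ | ψ ≠ 1}) : ℤ) - 1) * d ^ 2 + ∑ᶠ χ ∈ X, a χ ^ 2 =
    (Nat.card (autP P) : ℤ) + 1
  card_Y : Nat.card (autP P) * Nat.card (ζ '' {ψ | ψ ≠ 1}) + 1 = Nat.card ↥(P : Subgroup G)
  valX : ∀ χ ∈ X, ∀ (g : G) (y : ↥(P : Subgroup G)), y ≠ 1 → IsPPart p g (y : G) →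
    (χ : G → ℂ) g = (a χ : ℂ)
  valY : ∀ ψ : Dual P, ψ ≠ 1 → ∀ (g : G) (y : ↥(P : Subgroup G)), y ≠ 1 → IsPPart p g (y : G) →
    (ζ ψ : G → ℂ) g = (d : ℂ) + (δ : ℂ) * orb ψ y

theorem Setup.exists_data (hS : Setup P) {M : Ideal AlgInt} (hM : IsPModular p M)
    (hm2 : Nat.card (autP P) + 1 < Nat.card ↥(P : Subgroup G)) : Nonempty (Data P M) := by
  have := Fintype.ofFinite (IrrCharacter G)
  have := Fintype.ofFinite (Dual P)
  set m := Nat.card (autP P) with hm
  set O := (Finset.univ.filter fun ψ : Dual P => ψ ≠ 1).image orb with hO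
  have hcardO : m * O.card + 1 = Nat.card ↥(P : Subgroup G) := hS.card_orbits
  have hrep : ∀ i : O, ∃ ψ : Dual P, ψ ≠ 1 ∧ orb ψ = i.1 := fun i => by
    obtain ⟨ψ, hψ, he⟩ := Finset.mem_image.mp i.2
    exact ⟨ψ, (Finset.mem_filter.mp hψ).2, he⟩
  choose rep hrep1 hrep2 using hrep
  let v : O → G → ℂ := fun i => tau P (orb₀ (rep i))
  have hqm : (Nat.card ↥(P : Subgroup G) : ℂ) ≠ 0 ∧ (m : ℂ) ≠ 0 :=
    ⟨Nat.cast_ne_zero.mpr Nat.card_pos.ne', Nat.cast_ne_zero.mpr Nat.card_pos.ne'⟩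
  have hinv : ∀ ψ : Dual P, ∀ a ∈ autP P, ∀ y, orb₀ ψ (a y) = orb₀ ψ y :=
    fun ψ a ha y => orb₀_inv ψ ha y
  have hin : ∀ i j, classInner (v i) (v j) = (if i = j then 1 else 0) + (m : ℂ) := by
    intro i j
    rw [hS.classInner_tau (hinv _) (orb₀_apply_one _) (hS.tau_isClassFunction (hinv _)),
      Finset.sum_congr rfl fun y _ => by rw [hS.avg_tau (hinv _)],
      sum_orb₀_mul_conj hS (hrep1 i) (hrep1 j)]
    have : (orb (rep i) = orb (rep j)) ↔ i = j := by rw [hrep2, hrep2, Subtype.ext_iff]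
    simp only [this]
    simp only [hm]
    field_simp
  have hone : ∀ i, classInner (v i) (fun _ : G => (1 : ℂ)) = -1 := by
    intro i
    rw [hS.classInner_tau (hinv _) (orb₀_apply_one _) (fun _ _ => rfl),
      Finset.sum_congr rfl (g := fun y => orb₀ (rep i) y * 1) (fun y _ => ?_),
      sum_orb₀_mul_const hS (hrep1 i)]
    · field_simp
    · haveI := nonempty_fib y
      congr 1
      rw [avg, finsum_mem_eq_toFinset_sum, Finset.sum_const, nsmul_eq_mul, mul_one, Set.toFinset_card,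
        ← Nat.card_eq_fintype_card, inv_mul_cancel₀ (Nat.cast_ne_zero.mpr Nat.card_pos.ne'), map_one]
  have hι : 2 ≤ Fintype.card O := by
    rw [Fintype.card_coe]
    by_contra h
    push Not at h
    have : m * O.card ≤ m * 1 := Nat.mul_le_mul_left _ (by omega)
    omega
  obtain ⟨δ, d, z, a, hδ, hzinj, haz, ha1, hcoef, hnorm⟩ := exceptional_of_inner v m
    (fun i => hS.tau_isGC (hinv _) (isGC_orb₀ _))
    (fun i => by rw [show v i 1 = tau P (orb₀ (rep i)) 1 from rfl, hS.tau_regular (hinv _) (by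
      simp only [orderOf_one, Nat.dvd_one]; exact (Fact.out : p.Prime).ne_one), orb₀_apply_one])
    (fun i j => by convert hin i j) hone hι
  let idx : ∀ ψ : Dual P, ψ ≠ 1 → O := fun ψ hψ =>
    ⟨orb ψ, Finset.mem_image_of_mem _ (Finset.mem_filter.mpr ⟨Finset.mem_univ _, hψ⟩)⟩
  obtain ⟨i₀⟩ : Nonempty O := Fintype.card_pos_iff.mp (by omega)
  let ζ : Dual P → IrrCharacter G := fun ψ => if h : ψ ≠ 1 then z (idx ψ h) else z i₀
  have hζ : ∀ ψ (h : ψ ≠ 1), ζ ψ = z (idx ψ h) := fun ψ h => dif_pos h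
  have hrange : ζ '' {ψ | ψ ≠ 1} = Set.range z := by
    ext χ
    constructor
    · rintro ⟨ψ, hψ, rfl⟩; exact ⟨_, (hζ ψ hψ).symm⟩
    · rintro ⟨i, rfl⟩
      exact ⟨rep i, hrep1 i, (hζ _ (hrep1 i)).trans (congrArg z (Subtype.ext (hrep2 i)))⟩
  have htau : ∀ ψ (h : ψ ≠ 1), tau P (orb₀ ψ) = v (idx ψ h) := fun ψ h => by
    have : orb₀ (rep (idx ψ h)) = orb₀ ψ := funext fun y => by rw [orb₀, orb₀, hrep2]
    simp only [v, this]
  -- the means
  have havg : ∀ (χ : IrrCharacter G) (hh : ↥(P : Subgroup G) → ℂ),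
      (∀ b ∈ autP P, ∀ y, hh (b y) = hh y) →
      (∀ i, (Nat.card (P : Subgroup G) : ℂ)⁻¹ * (m : ℂ)⁻¹ *
        ∑ y : ↥(P : Subgroup G), orb₀ (rep i) y * conj (hh y) =
          classInner (v i) (χ : G → ℂ)) →
      ∀ y : ↥(P : Subgroup G), y ≠ 1 → avg p (χ : G → ℂ) (y : G) = hh y := by
    intro χ hh hinvh hi y hy
    refine hS.avg_eq_of_inner (Char.IsIrrCharacter.isClassFunction χ.2) hinvh (fun ψ hψ => ?_) hy
    rw [htau ψ hψ, ← hi]
    refine congrArg _ (Finset.sum_congr rfl fun w _ => ?_)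
    rw [show orb₀ (rep (idx ψ hψ)) w = orb₀ ψ w by rw [orb₀, orb₀, hrep2]]
  have havgX : ∀ χ : IrrCharacter G, χ ∉ Set.range z → ∀ y : ↥(P : Subgroup G), y ≠ 1 →
      avg p (χ : G → ℂ) (y : G) = (a χ : ℂ) := by
    intro χ hχ
    refine havg χ (fun _ => (a χ : ℂ)) (fun _ _ _ => rfl) fun i => ?_
    rw [hcoef, if_neg (fun e => hχ ⟨i, e.symm⟩), if_neg hχ, map_intCast,
      sum_orb₀_mul_const hS (hrep1 i)]
    simp only [hm]
    field_simp
    ring
  have havgY : ∀ j, ∀ y : ↥(P : Subgroup G), y ≠ 1 →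
      avg p (z j : G → ℂ) (y : G) = (d : ℂ) + (δ : ℂ) * orb (rep j) y := by
    intro j
    refine havg (z j) (fun y => (d : ℂ) + (δ : ℂ) * orb (rep j) y)
      (fun b hb y => by simp only [orb_inv _ hb]) fun i => ?_
    have hc := sum_orb₀_mul_conj hS (hrep1 i) (hrep1 j)
    have hc' := sum_orb₀_mul_const hS (hrep1 i)
    have hexp : ∀ y, orb₀ (rep i) y * conj ((d : ℂ) + (δ : ℂ) * orb (rep j) y) =
        orb₀ (rep i) y * ((d : ℂ) + (δ : ℂ) * (m : ℂ)) +
          (δ : ℂ) * (orb₀ (rep i) y * conj (orb₀ (rep j) y)) := fun y => by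
      simp only [orb₀, map_add, map_mul, map_sub, map_intCast, map_natCast, hm]
      ring
    rw [Finset.sum_congr rfl fun y _ => hexp y, Finset.sum_add_distrib, hc', ← Finset.mul_sum, hc,
      hcoef, if_pos (Set.mem_range_self j), haz]
    simp only [hzinj.eq_iff]
    have : (orb (rep i) = orb (rep j)) ↔ j = i := by rw [hrep2, hrep2, Subtype.ext_iff, eq_comm]
    simp only [this, hm]
    field_simp
    push_cast
    ring
  -- membership
  have hsame : ∀ (χ : IrrCharacter G), χ ∉ principalBlock M G → ∀ i, classInner (v i) (χ : G → ℂ) = 0 := by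
    intro χ hχ i
    rw [hS.classInner_tau (hinv _) (orb₀_apply_one _) (Char.IsIrrCharacter.isClassFunction χ.2),
      Finset.sum_eq_zero, mul_zero]
    intro y _
    by_cases hy : y = 1
    · rw [hy, orb₀_apply_one, zero_mul]
    · rw [hS.avg_eq_zero_of_notMem hM hχ hy, map_zero, mul_zero]
  have hYB : ∀ j, z j ∈ principalBlock M G := by
    intro j
    by_contra h
    obtain ⟨i, hi⟩ := Fintype.exists_ne_of_one_lt_card (by omega : 1 < Fintype.card O) j
    have e1 := hsame _ h i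
    have e2 := hsame _ h j
    rw [hcoef, if_neg (hzinj.ne hi.symm), if_pos (Set.mem_range_self j), haz] at e1
    rw [hcoef, if_pos rfl, if_pos (Set.mem_range_self j), haz] at e2
    have : (δ : ℂ) = 0 := by linear_combination e2 - e1
    rcases hδ with rfl | rfl <;> simp at this
  have hXB : ∀ χ : IrrCharacter G, χ ∉ Set.range z → (χ ∈ principalBlock M G ↔ a χ ≠ 0) := by
    intro χ hχ
    constructor
    · intro hB h0
      obtain ⟨y, hy, hne⟩ := hS.exists_apply_ne_zero hM (by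
        intro e; rw [e] at hm2; omega) hB
      exact hne (by rw [havgX χ hχ y hy, h0, Int.cast_zero])
    · intro h0
      by_contra hB
      have h1 := hsame χ hB i₀
      rw [hcoef, if_neg (fun e => hχ ⟨i₀, e.symm⟩), if_neg hχ] at h1
      simp at h1
      exact h0 h1
  let X : Set (IrrCharacter G) := {χ | χ ∉ Set.range z ∧ a χ ≠ 0}
  have ha0 : ∀ χ : IrrCharacter G, χ ∉ X → a χ = 0 := by
    intro χ hχ
    by_cases h : χ ∈ Set.range z
    · obtain ⟨j, rfl⟩ := h; exact haz j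
    · by_contra h0; exact hχ ⟨h, h0⟩
  refine ⟨⟨δ, d, ζ, a, X, hδ, ?_, ?_, ?_, fun χ h => h.2, ?_, ?_, ?_, ?_, ?_, ?_⟩⟩
  · intro ψ φ hψ hφ
    rw [hζ ψ hψ, hζ φ hφ, hzinj.eq_iff, Subtype.ext_iff]
  · rw [hrange, Set.disjoint_left]
    exact fun χ h h' => h.1 h'
  · rw [hrange]
    ext χ
    by_cases h : χ ∈ Set.range z
    · obtain ⟨j, rfl⟩ := h
      exact ⟨fun _ => Or.inr ⟨j, rfl⟩, fun _ => hYB j⟩
    · rw [hXB χ h]
      exact ⟨fun e => Or.inl ⟨h, e⟩, fun e => e.elim (fun e => e.2) fun e => absurd e h⟩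
  · let one : IrrCharacter G := ⟨fun _ => 1, Char.isIrrCharacter_one⟩
    have h1 : a one = 1 := ha1 one rfl
    refine ⟨one, ⟨?_, by rw [h1]; exact one_ne_zero⟩, rfl, h1⟩
    rintro ⟨j, hj⟩
    rw [← hj, haz] at h1
    exact zero_ne_one h1
  · intro ψ hψ g
    rw [htau ψ hψ, hζ ψ hψ]
    conv_lhs => rw [Char.classFunction_eq_sum (show IsClassFunction G (v (idx ψ hψ)) from
      hS.tau_isClassFunction (hinv _)), Finset.sum_apply]
    simp only [Pi.smul_apply, smul_eq_mul, hcoef, sub_mul, Finset.sum_sub_distrib]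
    congr 1
    congr 1
    · rw [Finset.sum_eq_single (z (idx ψ hψ))]
      · simp
      · intro b _ hb; simp [hb]
      · simp
    · rw [hrange, finsum_mem_eq_toFinset_sum, Finset.mul_sum, ← Finset.sum_filter_add_sum_filter_not
        Finset.univ (fun χ => χ ∈ Set.range z)]
      rw [Finset.sum_eq_zero (s := Finset.univ.filter fun χ => χ ∉ Set.range z) fun χ hχ => by
        rw [if_neg (Finset.mem_filter.mp hχ).2, mul_zero, zero_mul], add_zero]
      refine Finset.sum_congr (by ext; simp) fun χ hχ => ?_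
      rw [if_pos (by simpa using hχ), mul_one]
    · rw [finsum_mem_eq_toFinset_sum]
      refine (Finset.sum_subset (Finset.subset_univ _) fun χ _ hχ => ?_).symm
      rw [ha0 χ (by simpa using hχ)]; simp
  · rw [hrange, Nat.card_range_of_injective hzinj, Nat.card_eq_fintype_card, finsum_mem_eq_toFinset_sum,
      Finset.sum_subset (Finset.subset_univ _) fun χ _ hχ => by rw [ha0 χ (by simpa using hχ)]; ring]
    exact hnorm
  · rw [hrange, Nat.card_range_of_injective hzinj, Nat.card_eq_fintype_card (α := O), Fintype.card_coe]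
    exact hcardO
  · intro χ hχ g y hy hg
    have hB : χ ∈ principalBlock M G := (hXB χ hχ.1).mpr hχ.2
    obtain ⟨e1, e2⟩ := hS.apply_eq_avg hM hB hy (pp_eq hg)
    rw [e1, ← e2, havgX χ hχ.1 y hy]
  · intro ψ hψ g y hy hg
    rw [hζ ψ hψ]
    obtain ⟨e1, e2⟩ := hS.apply_eq_avg hM (hYB (idx ψ hψ)) hy (pp_eq hg)
    rw [e1, ← e2, havgY _ y hy, hrep2]

/-! ### Consequences at the regular elements -/

variable {M : Ideal AlgInt}

omit [Fintype G] in
theorem Data.eq_regular (hS : Setup P) (D : Data P M) {η η' : IrrCharacter G}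
    (hη : η ∈ D.ζ '' {ψ | ψ ≠ 1}) (hη' : η' ∈ D.ζ '' {ψ | ψ ≠ 1}) {g : G} (hg : ¬ p ∣ orderOf g) :
    (η : G → ℂ) g = (η' : G → ℂ) g := by
  obtain ⟨ψ, hψ, rfl⟩ := hη
  obtain ⟨φ, hφ, rfl⟩ := hη'
  have e1 := D.expand ψ hψ g
  have e2 := D.expand φ hφ g
  rw [hS.tau_regular (fun a ha y => orb₀_inv _ ha y) hg, orb₀_apply_one] at e1 e2
  have hδ : (D.δ : ℂ) ≠ 0 := by rcases D.sign with h | h <;> rw [h] <;> norm_num
  exact mul_left_cancel₀ hδ (by linear_combination e2 - e1)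

omit [Fintype G] in
theorem Data.relation (hS : Setup P) (D : Data P M) {η : IrrCharacter G}
    (hη : η ∈ D.ζ '' {ψ | ψ ≠ 1}) {g : G} (hg : ¬ p ∣ orderOf g) :
    ((Nat.card (D.ζ '' {ψ | ψ ≠ 1}) : ℂ) * D.d - D.δ) * (η : G → ℂ) g +
      ∑ᶠ χ ∈ D.X, (D.a χ : ℂ) * (χ : G → ℂ) g = 0 := by
  have hη0 := hη
  obtain ⟨ψ, hψ, rfl⟩ := hη
  have e1 := D.expand ψ hψ g
  rw [hS.tau_regular (fun a ha y => orb₀_inv _ ha y) hg, orb₀_apply_one,
    finsum_mem_congr rfl (g := fun _ => (D.ζ ψ : G → ℂ) g)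
      (fun η' hη' => D.eq_regular hS hη' hη0 hg),
    finsum_mem_eq_finite_toFinset_sum _ (Set.toFinite _), Finset.sum_const, nsmul_eq_mul,
    ← Set.ncard_eq_toFinset_card _ (Set.toFinite _)] at e1
  rw [← Nat.card_coe_set_eq] at e1
  linear_combination e1

end Cfsg.Agent.FrobSection
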