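import Mathlib.Tactic.LinearCombination
import Mathlib.Tactic.Linarith
import Mathlib.RingTheory.Int.Basic
import Mathlib.Algebra.GCDMonoid.Nat
import Cfsg.Agent.EqLemmas

/-!
# The arithmetic of three signs (`count_and_square`)
-/

set_option autoImplicit false

namespace Cfsg.Agent.FrobSection

theorem one_negative {u v w A B C : ℤ} (hu : 0 < u) (hv : 0 < v) (hA : A ≠ u)
    (h0 : w = 1 + u + v) (h1 : C = -(1 + A + B))
    (h2 : u * v * w + w * v * A ^ 2 + w * u * B ^ 2 = u * v * C ^ 2) : False := by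
  have hpos : 0 < (A - u) ^ 2 := by
    have : A - u ≠ 0 := sub_ne_zero.mpr hA
    positivity
  have key : v * (A - u) ^ 2 + u * (B - v) ^ 2 + (v * A - u * B) ^ 2 = 0 := by
    subst h0 h1
    linear_combination h2
  nlinarith [mul_pos hv hpos, mul_nonneg hu.le (sq_nonneg (B - v)), sq_nonneg (v * A - u * B)]

theorem isSquare_of_two_negative {u v w A B C : ℤ} (hu : 0 < u) (hv : 0 < v) (hw : 0 < w)
    (hC : C ≠ w) (h0 : u + v = 1 + w) (h1 : A + B = -(1 + C))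
    (h2 : u * v * w + u * v * C ^ 2 = w * (v * A ^ 2 + u * B ^ 2)) : IsSquare (u * v * w) := by
  have key : (C - w) ^ 2 * (u * v * w) = ((A * v - B * u) * w) ^ 2 := by
    obtain rfl : A = -(1 + C) - B := by linarith
    obtain rfl : w = u + v - 1 := by linarith
    linear_combination (u + v - 1) * (u + v) * h2
  have hk : C - w ≠ 0 := sub_ne_zero.mpr hC
  have hdvd : (C - w) ∣ (A * v - B * u) * w := (Int.pow_dvd_pow_iff two_ne_zero).mp ⟨_, key.symm⟩
  obtain ⟨c, hc⟩ := hdvd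
  refine ⟨c, mul_left_cancel₀ (pow_ne_zero 2 hk) ?_⟩
  rw [key, hc]; ring

/-- Exactly two of the three signs are negative and the product of the numbers is a square. -/
theorem count_and_square {n₁ n₂ n₃ : ℕ} {e₁ e₂ e₃ x₁ x₂ x₃ : ℤ}
    (he₁ : e₁ = 1 ∨ e₁ = -1) (he₂ : e₂ = 1 ∨ e₂ = -1) (he₃ : e₃ = 1 ∨ e₃ = -1)
    (hn₁ : 0 < n₁) (hn₂ : 0 < n₂) (hn₃ : 0 < n₃)
    (hx₁ : x₁ ≠ n₁) (hx₂ : x₂ ≠ n₂) (hx₃ : x₃ ≠ n₃)
    (h0 : 1 + e₁ * n₁ + e₂ * n₂ + e₃ * n₃ = 0) (h1 : 1 + e₁ * x₁ + e₂ * x₂ + e₃ * x₃ = 0)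
    (h2 : (n₁ : ℤ) * n₂ * n₃ + e₁ * x₁ ^ 2 * n₂ * n₃ + e₂ * x₂ ^ 2 * n₁ * n₃ +
      e₃ * x₃ ^ 2 * n₁ * n₂ = 0) :
    (if e₁ = -1 then 1 else 0) + (if e₂ = -1 then 1 else 0) + (if e₃ = -1 then 1 else 0) = (2 : ℕ) ∧
      IsSquare (n₁ * n₂ * n₃) := by
  have a₁ : (0 : ℤ) < n₁ := by exact_mod_cast hn₁
  have a₂ : (0 : ℤ) < n₂ := by exact_mod_cast hn₂
  have a₃ : (0 : ℤ) < n₃ := by exact_mod_cast hn₃
  have hnat : IsSquare ((n₁ : ℤ) * n₂ * n₃) → IsSquare (n₁ * n₂ * n₃) := by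
    rintro ⟨c, hc⟩
    refine ⟨c.natAbs, ?_⟩
    have := congrArg Int.natAbs hc
    simpa [Int.natAbs_mul] using this
  rcases he₁ with rfl | rfl <;> rcases he₂ with rfl | rfl <;> rcases he₃ with rfl | rfl
  · linarith
  · exact (one_negative (u := n₁) (v := n₂) (w := n₃) (A := x₁) (B := x₂) (C := -x₃) a₁ a₂ hx₁
      (by linarith) (by linarith) (by linear_combination h2)).elim
  · exact (one_negative (u := n₁) (v := n₃) (w := n₂) (A := x₁) (B := x₃) (C := -x₂) a₁ a₃ hx₁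
      (by linarith) (by linarith) (by linear_combination h2)).elim
  · refine ⟨by norm_num, hnat ?_⟩
    rw [show (n₁ : ℤ) * n₂ * n₃ = n₂ * n₃ * n₁ by ring]
    exact isSquare_of_two_negative (A := -x₂) (B := -x₃) (C := x₁) a₂ a₃ a₁ hx₁
      (by linarith) (by linarith) (by linear_combination h2)
  · exact (one_negative (u := n₂) (v := n₃) (w := n₁) (A := x₂) (B := x₃) (C := -x₁) a₂ a₃ hx₂
      (by linarith) (by linarith) (by linear_combination h2)).elim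
  · refine ⟨by norm_num, hnat ?_⟩
    rw [show (n₁ : ℤ) * n₂ * n₃ = n₁ * n₃ * n₂ by ring]
    exact isSquare_of_two_negative (A := -x₁) (B := -x₃) (C := x₂) a₁ a₃ a₂ hx₂
      (by linarith) (by linarith) (by linear_combination h2)
  · refine ⟨by norm_num, hnat ?_⟩
    exact isSquare_of_two_negative (A := -x₁) (B := -x₂) (C := x₃) a₁ a₂ a₃ hx₃
      (by linarith) (by linarith) (by linear_combination h2)
  · exfalso; linarith

end Cfsg.Agent.FrobSection
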