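import Cfsg.Agent.Lib.FrobSection.Main
import Cfsg.Agent.Lib.FrobSection.Signs
import Cfsg.Agent.Lib.Char.ClassMult
import Cfsg.Agent.Lib.SecondMain.KleinFour
import Cfsg.Agent.Lib.TwoClassChar.Basic

/-!
# The principal block when the automizer has order three

`Setup.exists_three` (the normal form with `d = 0`) and `Three.signs` (the relations given by an
involution outside every proper normal subgroup).
-/

set_option autoImplicit false

open scoped ComplexConjugate
open scoped Classical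

namespace Cfsg.Agent.FrobSection

open Cfsg Cfsg.Agent

universe u

variable {G : Type u} [Group G] [Finite G] {p : ℕ} [Fact p.Prime] {P : Sylow p G}

/-- The normal form for an automizer of order three. -/
structure Three (P : Sylow p G) (M : Ideal AlgInt) where
  δ : ℤ
  ζ : Dual P → IrrCharacter G
  a : IrrCharacter G → ℤ
  X : Set (IrrCharacter G)
  sign : δ = 1 ∨ δ = -1
  signX : ∀ χ ∈ X, a χ = 1 ∨ a χ = -1
  card_X : Nat.card X = 3
  disj : Disjoint X (ζ '' {ψ | ψ ≠ 1})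
  block : principalBlock M G = X ∪ ζ '' {ψ | ψ ≠ 1}
  orbit_eq : ∀ ψ φ : Dual P, ψ ≠ 1 → φ ≠ 1 → orb ψ = orb φ → ζ ψ = ζ φ
  one : ∃ χ₁ ∈ X, (χ₁ : G → ℂ) = (fun _ => 1) ∧ a χ₁ = 1
  card_Y : 3 * Nat.card (ζ '' {ψ | ψ ≠ 1}) + 1 = Nat.card ↥(P : Subgroup G)
  expand : ∀ ψ : Dual P, ψ ≠ 1 → ∀ g : G, tau P (orb₀ ψ) g = (δ : ℂ) * (ζ ψ : G → ℂ) g -
    ∑ᶠ χ ∈ X, (a χ : ℂ) * (χ : G → ℂ) g
  valX : ∀ χ ∈ X, ∀ (g : G) (y : ↥(P : Subgroup G)), y ≠ 1 → IsPPart p g (y : G) →
    (χ : G → ℂ) g = (a χ : ℂ)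
  valY : ∀ ψ : Dual P, ψ ≠ 1 → ∀ (g : G) (y : ↥(P : Subgroup G)), y ≠ 1 → IsPPart p g (y : G) →
    (ζ ψ : G → ℂ) g = (δ : ℂ) * orb ψ y

variable [Fintype G] {M : Ideal AlgInt}

theorem Setup.exists_three (hS : Setup P) (hM : IsPModular p M) (hm : Nat.card (autP P) = 3)
    (hq : 4 < Nat.card ↥(P : Subgroup G)) : Nonempty (Three P M) := by
  have := Fintype.ofFinite (IrrCharacter G)
  obtain ⟨D⟩ := hS.exists_data hM (by omega)
  set Y := D.ζ '' {ψ | ψ ≠ 1} with hYdef
  have hY : 3 * Nat.card Y + 1 = Nat.card ↥(P : Subgroup G) := hm ▸ D.card_Y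
  have hr : 2 ≤ Nat.card Y := by omega
  have hr3 : Nat.card Y ≠ 3 := by
    intro h
    obtain ⟨k, hk⟩ := IsPGroup.iff_card.mp P.2
    rw [h] at hY
    have h10 : p ^ k = 10 := by
      rw [← hk]; exact hY.symm
    have hp : p.Prime := Fact.out
    have h2 : (2 : ℕ) ∣ p ^ k := h10 ▸ by norm_num
    have h5 : (5 : ℕ) ∣ p ^ k := h10 ▸ by norm_num
    have e2 := (Nat.prime_dvd_prime_iff_eq Nat.prime_two hp).mp (Nat.prime_two.dvd_of_dvd_pow h2)
    have e5 := (Nat.prime_dvd_prime_iff_eq (by norm_num) hp).mp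
      ((by norm_num : Nat.Prime 5).dvd_of_dvd_pow h5)
    omega
  set r : ℕ := Nat.card Y with hrdef
  set S : ℤ := ∑ᶠ χ ∈ D.X, D.a χ ^ 2 with hSdef
  have hnorm : (D.d - D.δ) ^ 2 + ((r : ℤ) - 1) * D.d ^ 2 + S = 4 := by
    have h := D.norm
    rw [hm, ← hYdef, ← hrdef, ← hSdef] at h
    push_cast at h
    linarith
  obtain ⟨χ₁, hχ₁, h₁, ha₁⟩ := D.one
  have hSX : (Nat.card D.X : ℤ) ≤ S := by
    rw [hSdef, finsum_mem_eq_toFinset_sum, Nat.card_eq_fintype_card, ← Set.toFinset_card]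
    calc ((D.X.toFinset.card : ℕ) : ℤ) = ∑ χ ∈ D.X.toFinset, (1 : ℤ) := by simp
      _ ≤ ∑ χ ∈ D.X.toFinset, D.a χ ^ 2 := Finset.sum_le_sum fun χ hχ => by
        nlinarith [sq_pos_of_ne_zero (D.a_ne χ (by simpa using hχ))]
  have hX1 : 1 ≤ Nat.card D.X := by
    haveI : Nonempty D.X := ⟨⟨χ₁, hχ₁⟩⟩
    exact Nat.card_pos
  have hcases : (D.d = 0 ∧ S = 3) ∨ (D.d = D.δ ∧ r = 2 ∧ S = 3) ∨ (D.d = D.δ ∧ r = 4 ∧ S = 1) := by
    have hr' : (1 : ℤ) ≤ (r : ℤ) - 1 := by omega
    have hd2 : D.d ^ 2 ≤ 3 := by nlinarith [sq_nonneg (D.d - D.δ)]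
    have hd : -1 ≤ D.d ∧ D.d ≤ 1 := ⟨by nlinarith, by nlinarith⟩
    have : D.d = -1 ∨ D.d = 0 ∨ D.d = 1 := by omega
    rcases D.sign with hδ | hδ <;> rcases this with hd | hd | hd <;>
      rw [hd, hδ] at hnorm <;> rw [hd, hδ] <;> norm_num at hnorm ⊢ <;> omega
  -- the case of four exceptional characters is impossible
  have hS3 : S = 3 := by
    rcases hcases with h | h | ⟨hd, hr4, hS1⟩
    · exact h.2
    · exact h.2.2
    exfalso
    have hX : D.X = {χ₁} := by
      have hc : D.X.ncard = 1 := by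
        rw [← Nat.card_coe_set_eq]; omega
      obtain ⟨b, hb⟩ := Set.ncard_eq_one.mp hc
      rw [hb] at hχ₁ ⊢
      rw [Set.mem_singleton_iff.mp hχ₁]
    obtain ⟨η, hη⟩ : Y.Nonempty := by
      rw [← Set.nonempty_coe_sort]
      exact (Nat.card_pos_iff.mp (by omega : 0 < Nat.card Y)).1
    have hrel := D.relation hS hη (g := 1)
      (by simp only [orderOf_one, Nat.dvd_one]; exact (Fact.out : p.Prime).ne_one)
    obtain ⟨n, -, hn⟩ := Char.IsIrrCharacter.exists_degree η.2
    rw [← hYdef, ← hrdef, hr4, hd, hX, finsum_mem_singleton, ha₁, h₁, hn] at hrel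
    have h3 : (3 : ℤ) * D.δ * n + 1 = 0 := by
      have : ((3 * D.δ * n + 1 : ℤ) : ℂ) = 0 := by
        push_cast; push_cast at hrel; linear_combination hrel
      exact_mod_cast this
    rcases D.sign with h | h <;> rw [h] at h3 <;> omega
  -- the signs
  have hX3 : ∀ χ ∈ D.X, D.a χ = 1 ∨ D.a χ = -1 := by
    intro χ hχ
    by_cases e : χ = χ₁
    · rw [e, ha₁]; exact Or.inl rfl
    have h2 : D.a χ ^ 2 + D.a χ₁ ^ 2 ≤ S := by
      rw [hSdef, finsum_mem_eq_toFinset_sum, ← Finset.sum_pair (f := fun x => D.a x ^ 2) e]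
      exact Finset.sum_le_sum_of_subset_of_nonneg
        (fun x hx => by
          rcases Finset.mem_insert.mp hx with rfl | hx
          · simpa using hχ
          · rw [Finset.mem_singleton.mp hx]; simpa using hχ₁)
        (fun _ _ _ => sq_nonneg _)
    rw [ha₁, hS3] at h2
    have hne := D.a_ne χ hχ
    have : -1 ≤ D.a χ ∧ D.a χ ≤ 1 := ⟨by nlinarith, by nlinarith⟩
    omega
  have hcard : Nat.card D.X = 3 := by
    have h : S = (Nat.card D.X : ℤ) := by
      rw [hSdef, finsum_mem_eq_toFinset_sum, Finset.sum_congr rfl (g := fun _ => (1 : ℤ)) fun χ hχ => ?_,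
        Nat.card_eq_fintype_card, ← Set.toFinset_card]
      · simp
      · rcases hX3 χ (by simpa using hχ) with h | h <;> rw [h] <;> norm_num
    omega
  rcases hcases with ⟨hd, -⟩ | ⟨hd, hr2, -⟩ | ⟨-, -, hS1⟩
  · refine ⟨⟨D.δ, D.ζ, D.a, D.X, D.sign, hX3, hcard, D.disj, D.block,
      fun ψ φ hψ hφ h => (D.ζ_eq_iff ψ φ hψ hφ).mpr h, D.one, hY, fun ψ hψ g => ?_, D.valX,
      fun ψ hψ g y hy hg => ?_⟩⟩
    · rw [D.expand ψ hψ g, hd]; simp
    · rw [D.valY ψ hψ g y hy hg, hd]; simp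
  · -- two exceptional characters: exchange them
    obtain ⟨u, v, huv, huv'⟩ := Set.ncard_eq_two.mp ((Nat.card_coe_set_eq Y).symm.trans hr2)
    let ζ' : Dual P → IrrCharacter G := fun ψ => if D.ζ ψ = u then v else u
    have hmem : ∀ ψ, ψ ≠ 1 → D.ζ ψ = u ∨ D.ζ ψ = v := fun ψ hψ => by
      have : D.ζ ψ ∈ Y := ⟨ψ, hψ, rfl⟩
      rwa [huv'] at this
    obtain ⟨ψu, hψu, hu⟩ : u ∈ Y := by rw [huv']; exact Or.inl rfl
    obtain ⟨ψv, hψv, hv⟩ : v ∈ Y := by rw [huv']; exact Or.inr rfl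
    have himage : ζ' '' {ψ | ψ ≠ 1} = Y := by
      refine Set.Subset.antisymm ?_ ?_
      · rintro _ ⟨ψ, -, rfl⟩
        rw [huv']
        simp only [ζ']
        split_ifs
        · exact Or.inr rfl
        · exact Or.inl rfl
      · rw [huv']
        rintro _ (rfl | rfl)
        · exact ⟨ψv, hψv, by simp only [ζ']; rw [if_neg (hv ▸ huv.symm)]⟩
        · exact ⟨ψu, hψu, by simp only [ζ']; rw [if_pos hu]⟩
    have hexp : ∀ ψ : Dual P, ψ ≠ 1 → ∀ g : G, tau P (orb₀ ψ) g =
        ((-D.δ : ℤ) : ℂ) * (ζ' ψ : G → ℂ) g - ∑ᶠ χ ∈ D.X, (D.a χ : ℂ) * (χ : G → ℂ) g := by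
      intro ψ hψ g
      rw [D.expand ψ hψ g, hd, ← hYdef, huv', finsum_mem_pair huv]
      simp only [ζ']
      rcases hmem ψ hψ with e | e
      · rw [if_pos e, e]; push_cast; ring
      · rw [if_neg (e ▸ huv.symm), e]; push_cast; ring
    refine ⟨⟨-D.δ, ζ', D.a, D.X, ?_, hX3, hcard, himage ▸ D.disj, himage ▸ D.block, ?_, D.one,
      himage ▸ hY, hexp, D.valX, ?_⟩⟩
    · rcases D.sign with h | h <;> rw [h] <;> norm_num
    · intro ψ φ hψ hφ h
      simp only [ζ', (D.ζ_eq_iff ψ φ hψ hφ).mpr h]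
    · intro ψ hψ g y hy hg
      have h := hexp ψ hψ g
      rw [hS.tau_apply (fun a ha y => orb₀_inv _ ha y) (by rw [pp_eq hg]), finsum_mem_congr rfl
        (g := fun _ => (1 : ℂ)) (fun χ hχ => ?_), finsum_mem_eq_toFinset_sum, Finset.sum_const,
        Set.toFinset_card, ← Nat.card_eq_fintype_card, hcard, orb₀, hm] at h
      · have hδ : (D.δ : ℂ) * (D.δ : ℂ) = 1 := by rcases D.sign with e | e <;> rw [e] <;> norm_num
        push_cast at h ⊢
        simp only [nsmul_eq_mul, Nat.cast_ofNat, mul_one] at h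
        linear_combination (D.δ : ℂ) * h - (ζ' ψ : G → ℂ) g * hδ
      · rw [D.valX χ hχ g y hy hg]
        rcases hX3 χ hχ with e | e <;> rw [e] <;> norm_num
  · omega

/-! ### The involution -/

omit [Fintype G] in
theorem Setup.exists_dual_trivial_on (hS : Setup P) (W : Subgroup ↥(P : Subgroup G)) (hW : W ≠ ⊤) :
    ∃ ψ : Dual P, ψ ≠ 1 ∧ ∀ w ∈ W, ψ w = 1 := by
  haveI := hS.comm
  haveI : W.Normal := ⟨fun w hw g => by rwa [mul_comm' g w, mul_inv_cancel_right]⟩
  haveI : Nontrivial (↥(P : Subgroup G) ⧸ W) := by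
    rw [← Finite.one_lt_card_iff_nontrivial, ← Subgroup.index_eq_card]
    have := Subgroup.index_ne_zero_of_finite (H := W)
    have := (Subgroup.index_eq_one (H := W)).not.mpr hW
    omega
  haveI : IsMulCommutative (↥(P : Subgroup G) ⧸ W) := ⟨⟨fun a b => by
    induction a using QuotientGroup.induction_on with | _ a => ?_
    induction b using QuotientGroup.induction_on with | _ b => ?_
    rw [← QuotientGroup.mk_mul, ← QuotientGroup.mk_mul, mul_comm']⟩⟩
  have hc : 1 < Nat.card ((↥(P : Subgroup G) ⧸ W) →* ℂˣ) := by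
    rw [Nat.card_congr (Char.linearCharEquiv _), Char.card_linear_irr,
      (commutator_eq_bot_iff _).mpr inferInstance, Subgroup.index_bot]
    exact Finite.one_lt_card
  haveI : Finite ((↥(P : Subgroup G) ⧸ W) →* ℂˣ) := Nat.finite_of_card_ne_zero (by omega)
  haveI := Finite.one_lt_card_iff_nontrivial.mp hc
  obtain ⟨φ, hφ⟩ := exists_ne (1 : (↥(P : Subgroup G) ⧸ W) →* ℂˣ)
  refine ⟨φ.comp (QuotientGroup.mk' W), fun e => hφ ?_, fun w hw => ?_⟩
  · refine MonoidHom.ext fun x => ?_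
    obtain ⟨x, rfl⟩ := QuotientGroup.mk_surjective x
    exact DFunLike.congr_fun e x
  · rw [MonoidHom.comp_apply, QuotientGroup.mk'_apply, (QuotientGroup.eq_one_iff w).mpr hw, map_one]

theorem card_closure_involutions_le {H : Type*} [Group H] [Finite H] [IsMulCommutative H]
    (S : Finset H) (hS : ∀ s ∈ S, s * s = 1) :
    Nat.card (Subgroup.closure (S : Set H)) ≤ 2 ^ S.card := by
  induction S using Finset.induction_on with
  | empty => simp
  | insert s T hs ih =>
    rw [Finset.coe_insert, Set.insert_eq, Subgroup.closure_union, ← Subgroup.zpowers_eq_closure,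
      Finset.card_insert_of_notMem hs, pow_succ']
    haveI : (Subgroup.closure (T : Set H)).Normal :=
      ⟨fun w hw g => by rwa [mul_comm' g w, mul_inv_cancel_right]⟩
    have h2 : Nat.card (Subgroup.zpowers s) ≤ 2 := by
      rw [Nat.card_zpowers]
      exact Nat.le_of_dvd two_pos (orderOf_dvd_of_pow_eq_one (by
        rw [sq]; exact hS s (Finset.mem_insert_self s T)))
    refine le_trans ?_ (Nat.mul_le_mul h2 (ih fun x hx => hS x (Finset.mem_insert_of_mem hx)))
    calc Nat.card ↥(Subgroup.zpowers s ⊔ Subgroup.closure (T : Set H))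
        ≤ Nat.card (Subgroup.zpowers s × Subgroup.closure (T : Set H)) := by
          refine Nat.card_le_card_of_surjective (fun x => ⟨(x.1 : H) * x.2,
            mul_mem (Subgroup.mem_sup_left x.1.2) (Subgroup.mem_sup_right x.2.2)⟩) ?_
          rintro ⟨w, hw⟩
          obtain ⟨a, ha, b, hb, rfl⟩ := Subgroup.mem_sup_of_normal_right.mp hw
          exact ⟨(⟨a, ha⟩, ⟨b, hb⟩), rfl⟩
      _ = _ := Nat.card_prod _ _

omit [Fintype G] in
theorem Setup.normalizer_le (hS : Setup P) {y : ↥(P : Subgroup G)} (hy : y ≠ 1)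
    (hle : (P : Subgroup G) ≤ Subgroup.centralizer ({(y : G)} : Set G)) :
    Subgroup.normalizer (((P.subtype hle : Sylow p (Subgroup.centralizer ({(y : G)} : Set G))) :
        Subgroup (Subgroup.centralizer ({(y : G)} : Set G))) : Set (Subgroup.centralizer ({(y : G)} : Set G))) ≤
      Subgroup.centralizer (((P.subtype hle : Sylow p (Subgroup.centralizer ({(y : G)} : Set G))) :
        Subgroup (Subgroup.centralizer ({(y : G)} : Set G))) : Set (Subgroup.centralizer ({(y : G)} : Set G))) := by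
  intro n hn
  have hnP : (n : G) ∈ Subgroup.normalizer ((P : Subgroup G) : Set G) := by
    rw [Subgroup.mem_normalizer_iff] at hn ⊢
    intro z
    by_cases hz : z ∈ Subgroup.centralizer ({(y : G)} : Set G)
    · exact hn ⟨z, hz⟩
    · refine ⟨fun h => (hz (hle h)).elim, fun h => ?_⟩
      have := mul_mem (mul_mem (inv_mem n.2) (hle h)) n.2
      rw [show (n : G)⁻¹ * ((n : G) * z * (n : G)⁻¹) * n = z by group] at this
      exact (hz this).elim
  have hC : (n : G) ∈ Subgroup.centralizer ((P : Subgroup G) : Set G) := by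
    rw [← hS.frob y y.2 (fun e => hy (Subtype.ext e))]
    exact ⟨n.2, hnP⟩
  exact Subgroup.mem_centralizer_iff.mpr fun z hz =>
    Subtype.ext (Subgroup.mem_centralizer_iff.mp hC z hz)

omit [Fintype G] in
/-- If a product of two conjugates of `t` has singular `p`-part `y`, then `y` is a product of two
conjugates of `t` in `P`. -/
theorem Setup.mem_closure_of_product (hS : Setup P) (hm : Nat.card (autP P) = 3) {t : G}
    (ht : orderOf t = 2) {g t' t'' : G} (h' : IsConj t t') (h'' : IsConj t t'') (hg : t' * t'' = g⁻¹)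
    {y : ↥(P : Subgroup G)} (hy : y ≠ 1) (hpp : pp p g = (y : G)) :
    p = 2 ∧ y ∈ Subgroup.closure {u : ↥(P : Subgroup G) | IsConj t (u : G)} := by
  haveI := hS.comm
  have hord : ∀ s, IsConj t s → orderOf s = 2 ∧ s⁻¹ = s := by
    intro s hs
    obtain ⟨c, rfl⟩ := isConj_iff.mp hs
    have : orderOf (c * t * c⁻¹) = 2 := (SecondMain.orderOf_conj c t).trans ht
    refine ⟨this, inv_eq_of_mul_eq_one_right ?_⟩
    have h2 := pow_orderOf_eq_one (c * t * c⁻¹)
    rwa [this, sq] at h2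
  have hgval : g = t'' * t' := by
    rw [← inv_inv g, ← hg, mul_inv_rev, (hord _ h').2, (hord _ h'').2]
  have hinv : pp p g⁻¹ = (y : G)⁻¹ := by
    refine eq_inv_of_mul_eq_one_left ?_
    rw [← hpp, ← pp_mul_of_commute (Commute.refl g).inv_left, inv_mul_cancel, pp_one]
  have hty : t' * (y : G) * t'⁻¹ = (y : G)⁻¹ := by
    rw [← hinv, ← hpp, ← pp_conj]
    congr 1
    rw [hgval, (hord _ h').2, mul_inv_rev, (hord _ h').2, (hord _ h'').2]
    simp [mul_assoc, show t' * t' = 1 by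
      have := pow_orderOf_eq_one t'
      rwa [(hord _ h').1, sq] at this]
  obtain ⟨b, hb, hby⟩ := hS.exists_aut (y := y) (y' := y⁻¹) (isConj_iff.mpr ⟨t', by simpa using hty⟩)
  have hb2 : b * b = 1 := hS.fpf (mul_mem hb hb) hy (by rw [MulAut.mul_apply, hby, map_inv, hby, inv_inv])
  have hb1 : b = 1 := by
    have h3 : (⟨b, hb⟩ : autP P) ^ 3 = 1 := by rw [← hm]; exact pow_card_eq_one'
    have h3' : b ^ 3 = 1 := congrArg Subtype.val h3
    rwa [pow_succ, sq, hb2, one_mul] at h3'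
  have hyy : y * y = 1 := by
    rw [hb1, MulAut.one_apply] at hby
    nth_rw 2 [hby]
    exact mul_inv_cancel y
  have hy2 : orderOf (y : G) = 2 := by
    rw [Subgroup.orderOf_coe]
    exact orderOf_eq_prime (by rw [sq, hyy]) hy
  have hp2 : p = 2 := by
    obtain ⟨k, hk⟩ := exists_orderOf_pp (p := p) g
    rw [hpp, hy2] at hk
    exact ((Nat.prime_dvd_prime_iff_eq Nat.prime_two Fact.out).mp
      (Nat.prime_two.dvd_of_dvd_pow (dvd_of_eq hk))).symm
  refine ⟨hp2, ?_⟩
  have hyinv : (y : G)⁻¹ = y := congrArg Subtype.val (inv_eq_of_mul_eq_one_right hyy)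
  rw [hyinv] at hty
  set C := Subgroup.centralizer ({(y : G)} : Set G) with hC
  have hle : (P : Subgroup G) ≤ C := fun z hz =>
    Subgroup.mem_centralizer_singleton_iff.mpr
      (congrArg Subtype.val (mul_comm' (⟨z, hz⟩ : (P : Subgroup G)) y))
  have hgC : g ∈ C := by
    obtain ⟨z, he, hc, -, -⟩ := isPPart_pp (p := p) g
    rw [hpp] at he hc
    rw [← he]
    exact mul_mem (hle y.2) (Subgroup.mem_centralizer_singleton_iff.mpr hc.symm.eq)
  have ht'C : t' ∈ C := Subgroup.mem_centralizer_singleton_iff.mpr (mul_inv_eq_iff_eq_mul.mp hty)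
  have ht''C : t'' ∈ C := by
    have : t'' = g * t' := by
      rw [hgval, mul_assoc, show t' * t' = 1 by
        have := pow_orderOf_eq_one t'
        rwa [(hord _ h').1, sq] at this, mul_one]
    rw [this]
    exact mul_mem hgC ht'C
  set Q := P.subtype hle with hQ
  let π := MonoidHom.transferSylow Q (hS.normalizer_le hy hle)
  have hcomm : ∀ a b : C, π (a * b * a⁻¹) = π b := by
    intro a b
    haveI : IsMulCommutative (Q : Subgroup C) := ⟨⟨fun u v => Subtype.ext (Subtype.ext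
      (congrArg (fun w : ↥(P : Subgroup G) => (w : G))
        (mul_comm' (⟨_, u.2⟩ : ↥(P : Subgroup G)) ⟨_, v.2⟩)))⟩⟩
    rw [map_mul, map_mul, map_inv, mul_comm' (π a), mul_inv_cancel_right]
  have hinj : ∀ u : C, u ∈ (Q : Subgroup C) → π u = 1 → u = 1 := by
    intro u hu h
    have := MonoidHom.ker_transferSylow_disjoint Q (hS.normalizer_le hy hle) (Q : Subgroup C) Q.2
    exact Subgroup.disjoint_def.mp this (MonoidHom.mem_ker.mpr h) hu
  have hP2 : ∀ s : C, IsConj t (s : G) → ∃ u : ↥(P : Subgroup G), IsConj t (u : G) ∧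
      π s = π ⟨u, hle u.2⟩ := by
    intro s hs
    have hso : orderOf s = 2 := by rw [← Subgroup.orderOf_coe]; exact (hord _ hs).1
    have hz : IsPGroup p (Subgroup.zpowers s) :=
      IsPGroup.of_card (n := 1) (by rw [Nat.card_zpowers, hso, hp2, pow_one])
    obtain ⟨R, hR⟩ := hz.exists_le_sylow
    obtain ⟨c, hc⟩ := MulAction.exists_smul_eq C R Q
    have hmem : c * s * c⁻¹ ∈ (Q : Subgroup C) := by
      rw [← hc]
      exact Subgroup.mem_map_of_mem _ (hR (Subgroup.mem_zpowers _))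
    exact ⟨⟨_, hmem⟩, hs.trans (isConj_iff.mpr ⟨(c : G), rfl⟩), (hcomm c s).symm⟩
  obtain ⟨u, hu, hπu⟩ := hP2 ⟨t', ht'C⟩ h'
  obtain ⟨u', hu', hπu'⟩ := hP2 ⟨t'', ht''C⟩ h''
  have hreg : π ⟨g, hgC⟩ = π ⟨y, hle y.2⟩ := by
    obtain ⟨z, he, hc, -, hz⟩ := isPPart_pp (p := p) g
    rw [hpp] at he hc
    have hzC : z ∈ C := Subgroup.mem_centralizer_singleton_iff.mpr hc.symm.eq
    have hz1 : π ⟨z, hzC⟩ = 1 := Transfer.map_eq_one_of_coprime Q.2 π (by
      rw [← Subgroup.orderOf_coe]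
      exact ((Fact.out : p.Prime).coprime_iff_not_dvd.mpr hz).symm)
    rw [show (⟨g, hgC⟩ : C) = ⟨y, hle y.2⟩ * ⟨z, hzC⟩ from Subtype.ext he.symm, map_mul, hz1, mul_one]
  have hprod : π ⟨y, hle y.2⟩ = π ⟨u', hle u'.2⟩ * π ⟨u, hle u.2⟩ := by
    rw [← hreg, ← hπu, ← hπu', ← map_mul]
    exact congrArg π (Subtype.ext hgval)
  have hfin : (⟨y, hle y.2⟩ : C)⁻¹ * (⟨u', hle u'.2⟩ * ⟨u, hle u.2⟩) = 1 := by
    refine hinj _ (mul_mem (inv_mem y.2) (mul_mem (s := (Q : Subgroup C)) u'.2 u.2)) ?_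
    rw [map_mul, map_inv, map_mul, ← hprod, inv_mul_cancel]
  have hyeq : y = u' * u := Subtype.ext (congrArg (fun w : C => (w : G)) (inv_mul_eq_one.mp hfin))
  rw [hyeq]
  exact mul_mem (Subgroup.subset_closure hu') (Subgroup.subset_closure hu)

omit [Fintype G] in
theorem irr_apply_ne_degree {χ : IrrCharacter G} (hχ : (χ : G → ℂ) ≠ fun _ => 1) {t : G}
    (htN : ∀ K : Subgroup G, K.Normal → t ∈ K → K = ⊤) : (χ : G → ℂ) t ≠ (χ : G → ℂ) 1 := by
  have := Fintype.ofFinite G
  intro h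
  have hcl := Char.IsIrrCharacter.isClassFunction χ.2
  let K : Subgroup G :=
    { carrier := {g | ∀ x, (χ : G → ℂ) (g * x) = (χ : G → ℂ) x}
      one_mem' := fun x => by rw [one_mul]
      mul_mem' := fun {a b} ha hb x => by rw [mul_assoc, ha, hb]
      inv_mem' := fun {a} ha x => by rw [← ha (a⁻¹ * x), mul_inv_cancel_left] }
  have hKn : K.Normal := ⟨fun a ha c x => by
    rw [← hcl (c * a * c⁻¹ * x) c⁻¹, show c⁻¹ * (c * a * c⁻¹ * x) * c⁻¹⁻¹ = a * (c⁻¹ * x * c) by group, ha,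
      show c⁻¹ * x * c = c⁻¹ * x * c⁻¹⁻¹ by group, hcl]⟩
  have hK := htN K hKn (fun x => TwoClassChar.ker_mul χ.2 h x)
  have hconst : ∀ g, (χ : G → ℂ) g = (χ : G → ℂ) 1 := fun g => by
    have hg : g ∈ K := hK ▸ Subgroup.mem_top g
    simpa using hg 1
  refine hχ ?_
  obtain ⟨n, hn, he⟩ := Char.IsIrrCharacter.exists_degree χ.2
  have hfun : (χ : G → ℂ) = (n : ℂ) • (fun _ => (1 : ℂ)) := by
    funext g; simp [hconst g, he]
  have h1 := Char.classInner_irr_self χ.2
  rw [hfun, Char.classInner_smul_left, Char.classInner_smul_right,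
    show classInner (fun _ : G => (1 : ℂ)) (fun _ => 1) = 1 from Char.classInner_irr_self Char.isIrrCharacter_one,
    map_natCast, mul_one] at h1
  have hn1 : n * n = 1 := by exact_mod_cast h1
  rw [hfun, Nat.eq_one_of_mul_eq_one_left hn1]
  simp

theorem Three.relations (hS : Setup P) (hm : Nat.card (autP P) = 3) (hq : 8 < Nat.card ↥(P : Subgroup G) ∨ p ≠ 2)
    (D : Three P M) {t : G} (ht : orderOf t = 2) :
    ∃ ψ : Dual P, ψ ≠ 1 ∧
      (D.δ : ℂ) * (D.ζ ψ : G → ℂ) t = ∑ᶠ χ ∈ D.X, (D.a χ : ℂ) * (χ : G → ℂ) t ∧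
      (D.δ : ℂ) * ((D.ζ ψ : G → ℂ) t ^ 2 / (D.ζ ψ : G → ℂ) 1) =
        ∑ᶠ χ ∈ D.X, (D.a χ : ℂ) * ((χ : G → ℂ) t ^ 2 / (χ : G → ℂ) 1) := by
  have := Fintype.ofFinite (IrrCharacter G)
  haveI := hS.comm
  haveI : Nontrivial ↥(P : Subgroup G) := by
    rw [← Finite.one_lt_card_iff_nontrivial]
    have := D.card_Y
    have hX := D.block
    by_contra h
    have h1 : Nat.card (autP P) ≤ 1 := by
      have h0 : Nat.card ↥(P : Subgroup G) ≤ 1 := not_lt.mp h
      haveI := Finite.card_le_one_iff_subsingleton.mp h0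
      haveI : Subsingleton (MulAut ↥(P : Subgroup G)) :=
        ⟨fun a b => MulEquiv.ext fun x => Subsingleton.elim _ _⟩
      exact Finite.card_le_one_iff_subsingleton.mpr inferInstance
    omega
  set O : Set ↥(P : Subgroup G) := {u | IsConj t (u : G)} with hO
  have hW : Subgroup.closure O ≠ ⊤ := by
    by_cases hne : O.Nonempty
    · obtain ⟨u, hu⟩ := hne
      have hu2 : orderOf (u : G) = 2 := by
        obtain ⟨c, hc⟩ := isConj_iff.mp (hu : IsConj t (u : G))
        rw [← hc, SecondMain.orderOf_conj, ht]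
      have hp2 : p = 2 := by
        obtain ⟨k, hk⟩ := IsPGroup.iff_orderOf.mp P.2 u
        rw [← Subgroup.orderOf_coe, hu2] at hk
        exact ((Nat.prime_dvd_prime_iff_eq Nat.prime_two Fact.out).mp
          (Nat.prime_two.dvd_of_dvd_pow (dvd_of_eq hk))).symm
      have hu1 : u ≠ 1 := by
        rintro rfl
        rw [Subgroup.coe_one, orderOf_one] at hu2
        omega
      have hcard := card_closure_involutions_le
        (Finset.univ.filter fun v : ↥(P : Subgroup G) => IsConj (u : G) (v : G)) (fun v hv => by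
          obtain ⟨c, hc⟩ := isConj_iff.mp (Finset.mem_filter.mp hv).2
          have : orderOf v = 2 := by rw [← Subgroup.orderOf_coe, ← hc, SecondMain.orderOf_conj, hu2]
          have h2 := pow_orderOf_eq_one v
          rwa [this, sq] at h2)
      rw [hS.card_conj_eq hu1, hm] at hcard
      have hsub : Subgroup.closure O ≤ Subgroup.closure
          (↑(Finset.univ.filter fun v : ↥(P : Subgroup G) => IsConj (u : G) (v : G))) :=
        Subgroup.closure_mono fun v hv => by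
          simpa using (hu : IsConj t (u : G)).symm.trans (hv : IsConj t (v : G))
      intro htop
      rw [htop, top_le_iff] at hsub
      rw [hsub, Subgroup.card_top] at hcard
      rcases hq with h | h
      · omega
      · exact h hp2
    · rw [Set.not_nonempty_iff_eq_empty.mp hne, Subgroup.closure_empty]
      exact bot_ne_top
  obtain ⟨ψ, hψ, hψW⟩ := hS.exists_dual_trivial_on _ hW
  have hf0 : ∀ w ∈ Subgroup.closure O, orb₀ ψ w = 0 := by
    intro w hw
    have hinv : ∀ a : autP P, ψ (a.1 w) = 1 := by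
      intro a
      refine hψW _ ?_
      refine Subgroup.closure_induction (p := fun v _ => a.1 v ∈ Subgroup.closure O) ?_ ?_ ?_ ?_ hw
      · exact fun v hv => Subgroup.subset_closure ((hv : IsConj t (v : G)).trans (isConj_aut a.2 v))
      · rw [map_one]; exact one_mem _
      · intro v v' _ _ h h'; rw [map_mul]; exact mul_mem h h'
      · intro v _ h; rw [map_inv]; exact inv_mem h
    have := Fintype.ofFinite (autP P)
    simp only [orb₀, orb, lin, hinv, Units.val_one, finsum_eq_sum_of_fintype]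
    simp [Nat.card_eq_fintype_card]
  have hfinv : ∀ a ∈ autP P, ∀ y, orb₀ ψ (a y) = orb₀ ψ y := fun a ha y => orb₀_inv ψ ha y
  have htau : tau P (orb₀ ψ) t = 0 := by
    obtain ⟨y, hy⟩ := exists_rep P t
    rw [hS.tau_apply hfinv hy]
    by_cases hp2 : p = 2
    · refine hf0 y (Subgroup.subset_closure ?_)
      show IsConj t (y : G)
      rwa [pp_eq_self ⟨1, by rw [ht, hp2, pow_one]⟩] at hy
    · have h1 : pp p t = 1 := pp_eq_one_iff.mpr fun h =>
        hp2 (((Nat.prime_dvd_prime_iff_eq Fact.out Nat.prime_two).mp (ht ▸ h)))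
      rw [h1, isConj_one_right] at hy
      rw [show y = 1 from Subtype.ext hy, orb₀_apply_one]
  refine ⟨ψ, hψ, ?_, ?_⟩
  · have := D.expand ψ hψ t
    rw [htau] at this
    linear_combination -this
  -- the count of the products of two conjugates
  let Φ : G → ℂ := fun g => ∑ χ : IrrCharacter G,
    ((χ : G → ℂ) t * (χ : G → ℂ) t / (χ : G → ℂ) 1) * (χ : G → ℂ) g
  have hΦcl : IsClassFunction G Φ := fun g c => Finset.sum_congr rfl fun χ _ => by
    rw [Char.IsIrrCharacter.isClassFunction χ.2]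
  have hkne : (Nat.card {x : G // IsConj t x} : ℂ) ≠ 0 := by
    haveI : Nonempty {x : G // IsConj t x} := ⟨⟨t, IsConj.refl t⟩⟩
    exact Nat.cast_ne_zero.mpr Nat.card_pos.ne'
  have hΦ0 : ∀ y : ↥(P : Subgroup G), orb₀ ψ y ≠ 0 → ∀ g ∈ fib p (y : G), Φ g = 0 := by
    intro y hy g hg
    have h := Char.class_mult_formula t t g⁻¹
    have hzero : Nat.card {x : G × G // IsConj t x.1 ∧ IsConj t x.2 ∧ x.1 * x.2 = g⁻¹} = 0 := by
      refine Nat.card_eq_zero.mpr (Or.inl ⟨fun ⟨⟨t', t''⟩, h', h'', he⟩ => hy ?_⟩)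
      by_cases hy1 : y = 1
      · rw [hy1, orb₀_apply_one]
      · exact hf0 y (hS.mem_closure_of_product hm ht h' h'' he hy1 hg).2
    rw [hzero, Nat.cast_zero, eq_comm, mul_eq_zero] at h
    have hGne : (Nat.card G : ℂ) ≠ 0 := Nat.cast_ne_zero.mpr Nat.card_pos.ne'
    refine Eq.trans (Finset.sum_congr rfl fun χ _ => ?_) (h.resolve_left (by simp [hkne, hGne]))
    rw [Char.IsCharacter.apply_inv (Char.IsIrrCharacter.isCharacter χ.2), Complex.conj_conj]
    ring
  have hinner : classInner (tau P (orb₀ ψ)) Φ = 0 := by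
    rw [hS.classInner_tau hfinv (orb₀_apply_one ψ) hΦcl, Finset.sum_eq_zero, mul_zero]
    intro y _
    by_cases hy : orb₀ ψ y = 0
    · rw [hy, zero_mul]
    · rw [avg, finsum_mem_congr rfl (hΦ0 y hy)]
      simp
  have hΦfun : Φ = ∑ χ : IrrCharacter G,
      ((χ : G → ℂ) t * (χ : G → ℂ) t / (χ : G → ℂ) 1) • (χ : G → ℂ) := by
    funext g; simp [Φ, Finset.sum_apply]
  have hexp : tau P (orb₀ ψ) = (D.δ : ℂ) • (D.ζ ψ : G → ℂ) -
      ∑ χ ∈ D.X.toFinset, (D.a χ : ℂ) • (χ : G → ℂ) := by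
    funext g
    rw [D.expand ψ hψ g, finsum_mem_eq_toFinset_sum]
    simp [Finset.sum_apply]
  have hk : ∀ χ : IrrCharacter G, classInner (χ : G → ℂ) Φ = (χ : G → ℂ) t ^ 2 / (χ : G → ℂ) 1 := by
    intro χ
    obtain ⟨n, hn⟩ := SecondMain.exists_int_involution ht χ
    obtain ⟨d, -, hd⟩ := Char.IsIrrCharacter.exists_degree χ.2
    rw [hΦfun, Char.classInner_sum_right, Finset.sum_eq_single χ]
    · rw [Char.classInner_smul_right, Char.classInner_irr_self χ.2, mul_one, hn, hd]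
      simp only [map_div₀, map_mul, map_intCast, map_natCast]
      ring
    · intro b _ hb
      rw [Char.classInner_smul_right, Char.classInner_irr_of_ne χ.2 b.2 (fun e => hb (Subtype.ext e).symm),
        mul_zero]
    · simp
  rw [hexp, Char.classInner_sub_left, Char.classInner_smul_left, Char.classInner_sum_left, hk,
    sub_eq_zero] at hinner
  rw [hinner, finsum_mem_eq_toFinset_sum]
  exact Finset.sum_congr rfl fun χ _ => by rw [Char.classInner_smul_left, hk]

end Cfsg.Agent.FrobSection
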